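import Groth.Agent.WittLib.Endo
import Groth.Agent.AGFHull.Reduced
import Groth.Agent.ConstrLib.Basic
import Mathlib.AlgebraicGeometry.AlgClosed.Basic
import Mathlib.AlgebraicGeometry.Morphisms.FinitePresentation
import Mathlib.Algebra.MvPolynomial.Equiv
import Mathlib.RingTheory.PrincipalIdealDomain
import Mathlib.RingTheory.Ideal.MinimalPrime.Noetherian
import Mathlib.FieldTheory.Perfect

/-! Smooth connected closed subgroups of the Witt groups over an algebraically closed field. -/

set_option autoImplicit false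
universe u

open CategoryTheory CategoryTheory.Limits AlgebraicGeometry MonoidalCategory CartesianMonoidalCategory MonObj
open Topology

namespace Groth.Agent.WittLib.Subgroup

open Groth.Agent.WittLib.Basic Groth.Agent.WittLib.Factor Groth.Agent.WittLib.Killed
  Groth.Agent.WittLib.Endo

variable {p : ℕ} [hp : Fact p.Prime] {k : Type u} [Field k]

local notation "Sk" => Spec (CommRingCat.of k)
local notation "pt₀" => IsLocalRing.closedPoint k

/-- A proper closed subset of the affine line is finite. -/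
lemma finite_of_isClosed {Z : Set (PrimeSpectrum (Polynomial k))} (hZ : IsClosed Z) (hne : Z ≠ Set.univ) :
    Z.Finite := by
  obtain ⟨I, rfl⟩ := (PrimeSpectrum.isClosed_iff_zeroLocus_ideal Z).1 hZ
  have hI : I ≠ ⊥ := fun h => hne (by rw [h, PrimeSpectrum.zeroLocus_bot])
  refine ((I.finite_minimalPrimes_of_isNoetherianRing _).preimage
    (f := PrimeSpectrum.asIdeal) (fun a _ b _ h => PrimeSpectrum.ext h)).subset fun q hq => ?_
  have hIq : I ≤ q.asIdeal := hq
  obtain ⟨r, hr, hrq⟩ := Ideal.exists_minimalPrimes_le hIq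
  haveI hrp : r.IsPrime := hr.1.1
  have hr0 : r ≠ ⊥ := fun h => hI (le_bot_iff.1 (h ▸ hr.1.2))
  have := (hrp.isMaximal hr0).eq_of_le q.isPrime.ne_top hrq
  exact (this ▸ hr : q.asIdeal ∈ I.minimalPrimes)

/-- `W_1` is the affine line. -/
noncomputable def homeoLine : (WittGrp.W p 1 Sk).left ≃ₜ PrimeSpectrum (Polynomial k) :=
  (TopCat.homeoOfIso (Scheme.forgetToTop.mapIso (AffineSpace.SpecIso (ULift.{u} (Fin 1)) (CommRingCat.of k)))).trans
    (PrimeSpectrum.homeomorphOfRingEquiv (MvPolynomial.uniqueAlgEquiv k (ULift.{u} (Fin 1))).toRingEquiv)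

lemma finite_of_isClosed_W_one {Z : Set (WittGrp.W p 1 Sk).left} (hZ : IsClosed Z) (hne : Z ≠ Set.univ) :
    Z.Finite := by
  have h := finite_of_isClosed ((homeoLine (p := p) (k := k)).isClosed_image.2 hZ) (fun h => hne (by
    rw [← (homeoLine (p := p) (k := k)).preimage_image Z, h, Set.preimage_univ]))
  exact h.of_finite_image (homeoLine (p := p) (k := k)).injective.injOn

instance irreducibleSpace_W_one : IrreducibleSpace (WittGrp.W p 1 Sk).left :=
  haveI : IrreducibleSpace (PrimeSpectrum (Polynomial k)) := inferInstance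
  { toNonempty := ⟨(homeoLine (p := p) (k := k)).symm (Classical.arbitrary _)⟩
    isPreirreducible_univ := by
      have h := (PreirreducibleSpace.isPreirreducible_univ (X := PrimeSpectrum (Polynomial k))).image
        (homeoLine (p := p) (k := k)).symm (homeoLine (p := p) (k := k)).symm.continuous.continuousOn
      rwa [Set.image_univ, (homeoLine (p := p) (k := k)).symm.range_coe] at h }

variable [IsAlgClosed k]

lemma exists_point {X : Over Sk} [LocallyOfFiniteType X.hom] {x : X.left} (hx : IsClosed ({x} : Set X.left)) :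
    ∃ P : 𝟙_ (Over Sk) ⟶ X, P.left.base pt₀ = x :=
  ⟨Over.homMk (pointOfClosedPoint X.hom x hx) (pointOfClosedPoint_comp X.hom x hx),
    pointOfClosedPoint_apply X.hom x hx pt₀⟩

lemma point_ext {X : Over Sk} [LocallyOfFiniteType X.hom] {P Q : 𝟙_ (Over Sk) ⟶ X}
    (h : P.left.base pt₀ = Q.left.base pt₀) : P = Q :=
  Over.OverMorphism.ext (ext_of_apply_closedPoint_eq (K := k) X.hom (Over.w P) (Over.w Q) h)

lemma isClosed_apply_point {X : Over Sk} [LocallyOfFiniteType X.hom] (P : 𝟙_ (Over Sk) ⟶ X) :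
    IsClosed ({P.left.base pt₀} : Set X.left) :=
  ((pointEquivClosedPoint X.hom) ⟨P.left, Over.w P⟩).2

/-- Either `g` is trivial or every rational point is in the image. -/
theorem eq_one_or_forall_lift {H : Over Sk} [GrpObj H] [IsReduced H.left] [QuasiCompact H.hom]
    [LocallyOfFiniteType H.hom] [ConnectedSpace H.left] (g : H ⟶ WittGrp.W p 1 Sk) [IsMonHom g] :
    g = 1 ∨ ∀ c : 𝟙_ (Over Sk) ⟶ WittGrp.W p 1 Sk, ∃ x, x ≫ g = c := by
  haveI : JacobsonSpace H.left := LocallyOfFiniteType.jacobsonSpace H.hom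
  haveI : LocallyOfFiniteType (WittGrp.W p 1 Sk).hom := inferInstance
  haveI : JacobsonSpace (WittGrp.W p 1 Sk).left := LocallyOfFiniteType.jacobsonSpace (WittGrp.W p 1 Sk).hom
  haveI hgl : LocallyOfFiniteType g.left := by
    haveI : LocallyOfFiniteType (g.left ≫ (WittGrp.W p 1 Sk).hom) := by rw [Over.w]; infer_instance
    exact locallyOfFiniteType_of_comp g.left (WittGrp.W p 1 Sk).hom
  by_cases hd : closure (Set.range g.left.base) = Set.univ
  · right
    intro c
    haveI : IsLocallyNoetherian (WittGrp.W p 1 Sk).left :=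
      LocallyOfFiniteType.isLocallyNoetherian (WittGrp.W p 1 Sk).hom
    haveI : IsAffine (WittGrp.W p 1 Sk).left := isAffine_of_isAffineHom (WittGrp.W p 1 Sk).hom
    haveI : QuasiCompact g.left := by
      haveI : QuasiCompact (g.left ≫ (WittGrp.W p 1 Sk).hom) := by rw [Over.w]; infer_instance
      exact QuasiCompact.of_comp g.left (WittGrp.W p 1 Sk).hom
    haveI : LocallyOfFinitePresentation g.left := inferInstance
    obtain ⟨U, hU, hne, hsub⟩ := ConstrLib.exists_open_subset_of_dense_constructible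
      (IrreducibleSpace.isIrreducible_univ (WittGrp.W p 1 Sk).left)
      (g.left.isConstructible_image (Topology.IsConstructible.univ))
      (by rw [Set.inter_univ, Set.image_univ, hd])
    rw [Set.inter_univ, Set.image_univ] at hsub
    rw [Set.inter_univ] at hne
    let τ : WittGrp.W p 1 Sk ⟶ WittGrp.W p 1 Sk :=
      (toUnit _ ≫ c) * (𝟙 (WittGrp.W p 1 Sk))⁻¹
    have hττ : τ ≫ τ = 𝟙 _ := by
      have : τ ≫ τ = (toUnit _ ≫ c) * τ⁻¹ := by
        simp only [τ, MonObj.comp_mul, GrpObj.comp_inv, Category.comp_id]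
        rw [← Category.assoc, toUnit_unique (_ ≫ toUnit _) (toUnit _)]
      rw [this]
      simp [τ]
    obtain ⟨u₀, hu₀⟩ := hne
    have hne2 : (U ∩ τ.left.base ⁻¹' U).Nonempty := by
      refine nonempty_preirreducible_inter hU (hU.preimage τ.left.continuous) ⟨u₀, hu₀⟩
        ⟨τ.left.base u₀, ?_⟩
      have := congrArg (fun q => q.left.base u₀) hττ
      exact Set.mem_preimage.2 (this.symm ▸ hu₀)
    obtain ⟨a, ⟨ha, ha'⟩, hac⟩ := nonempty_inter_closedPoints hne2
      ((hU.inter (hU.preimage τ.left.continuous)).isLocallyClosed)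
    obtain ⟨A, hA⟩ := exists_point (X := WittGrp.W p 1 Sk) hac
    have lift : ∀ B : 𝟙_ (Over Sk) ⟶ WittGrp.W p 1 Sk, B.left.base pt₀ ∈ U → ∃ x, x ≫ g = B := by
      intro B hB
      obtain ⟨h, hh⟩ := hsub hB
      obtain ⟨h', hh', hc'⟩ := nonempty_inter_closedPoints (Z := g.left.base ⁻¹' {B.left.base pt₀})
        ⟨h, hh⟩ ((isClosed_apply_point B).preimage g.left.continuous).isLocallyClosed
      obtain ⟨x, hx⟩ := exists_point (X := H) hc'
      refine ⟨x, point_ext ?_⟩
      show g.left.base (x.left.base pt₀) = _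
      rw [hx]
      exact hh'
    obtain ⟨x, hx⟩ := lift A (hA.symm ▸ ha)
    obtain ⟨y, hy⟩ := lift (A ≫ τ) (by show τ.left.base (A.left.base pt₀) ∈ U; rw [hA]; exact ha')
    refine ⟨y * x, ?_⟩
    rw [MonObj.mul_comp, hx, hy]
    simp only [τ, MonObj.comp_mul, GrpObj.comp_inv, Category.comp_id]
    rw [← Category.assoc, toUnit_unique (A ≫ toUnit _) (𝟙 _), Category.id_comp, inv_mul_cancel_right]
  · left
    have hfin : (Set.range g.left.base).Finite :=
      (finite_of_isClosed_W_one isClosed_closure hd).subset subset_closure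
    let o := ((1 : 𝟙_ (Over Sk) ⟶ WittGrp.W p 1 Sk)).left.base pt₀
    -- closed points in the range
    let Z : Set (WittGrp.W p 1 Sk).left := Set.range g.left.base ∩ closedPoints _
    have hZfin : Z.Finite := hfin.subset Set.inter_subset_left
    let C : Set H.left := g.left.base ⁻¹' {o}
    let D : Set H.left := g.left.base ⁻¹' (Z \ {o})
    have hoc : IsClosed ({o} : Set (WittGrp.W p 1 Sk).left) := isClosed_apply_point 1
    have hC : IsClosed C := hoc.preimage g.left.continuous
    have hD : IsClosed D := by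
      refine IsClosed.preimage g.left.continuous ?_
      rw [← Set.biUnion_of_singleton (Z \ {o})]
      exact (hZfin.subset Set.sdiff_subset).isClosed_biUnion fun z hz => hz.1.2
    have hcover : C ∪ D = Set.univ := by
      rw [Set.eq_univ_iff_forall]
      have hcl : closedPoints H.left ⊆ C ∪ D := by
        intro x hx
        obtain ⟨P, hP⟩ := exists_point (X := H) hx
        by_cases h : g.left.base x = o
        · exact Or.inl h
        · refine Or.inr ⟨⟨⟨x, rfl⟩, ?_⟩, h⟩
          rw [← hP]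
          exact isClosed_apply_point (P ≫ g)
      intro x
      have := (closure_minimal hcl (hC.union hD))
      rw [closure_closedPoints] at this
      exact this (Set.mem_univ x)
    have hdisj : Disjoint C D := Set.disjoint_left.2 fun x hxC hxD => hxD.2 hxC
    have hCopen : IsOpen C := by
      have : C = Dᶜ := by
        ext x
        exact ⟨fun h h' => Set.disjoint_left.1 hdisj h h', fun h => ((hcover ▸ Set.mem_univ x : x ∈ C ∪ D)).resolve_right h⟩
      rw [this]; exact hD.isOpen_compl
    have hCuniv : C = Set.univ := IsClopen.eq_univ ⟨hC, hCopen⟩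
      ⟨((1 : 𝟙_ (Over Sk) ⟶ H)).left.base pt₀, by
        have := congrArg (fun q => q.left.base pt₀) (MonObj.one_comp (X := 𝟙_ (Over Sk)) g)
        exact this⟩
    haveI : IsSeparated (WittGrp.W p 1 Sk).hom := isSeparated_W
    haveI : LocallyOfFiniteType (g.left ≫ (WittGrp.W p 1 Sk).hom) := by rw [Over.w]; infer_instance
    refine Over.OverMorphism.ext (ext_of_apply_eq (WittGrp.W p 1 Sk).hom Set.univ isOpen_univ.isLocallyClosed
      dense_univ (fun x _ _ => ?_) (by simp))
    have hx : x ∈ C := hCuniv ▸ Set.mem_univ x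
    refine (Set.mem_singleton_iff.1 hx).trans ?_
    show o = (1 : H ⟶ WittGrp.W p 1 Sk).left.base x
    have h1 : (1 : H ⟶ WittGrp.W p 1 Sk) = toUnit _ ≫ (1 : 𝟙_ (Over Sk) ⟶ WittGrp.W p 1 Sk) :=
      (MonObj.comp_one _).symm
    rw [h1]
    exact congrArg (fun t => (1 : 𝟙_ (Over Sk) ⟶ WittGrp.W p 1 Sk).left.base t)
      (@Subsingleton.elim _ (inferInstanceAs (Subsingleton (Spec (CommRingCat.of k)))) _ _)

variable [CharP k p]

/-- A subgroup of rational points with arbitrary first component is everything. -/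
theorem eq_top_of_surj : ∀ {n : ℕ} (K : _root_.Subgroup (𝟙_ (Over Sk) ⟶ WittGrp.W p n Sk)),
    (∀ (h : 1 ≤ n) (c : 𝟙_ (Over Sk) ⟶ WittGrp.W p 1 Sk), ∃ x ∈ K, x ≫ WittGrp.R p Sk h = c) → K = ⊤
  | 0, K, _ => eq_top_iff.2 fun x _ => by rw [eq_W_zero x 1]; exact K.one_mem
  | n + 1, K, hK => by
    have hS : (p : Γ(Sk, ⊤)) = 0 := natCast_eq_zero_spec k
    have h1 : 1 ≤ n + 1 := Nat.le_add_left 1 n
    let φ : (𝟙_ (Over Sk) ⟶ WittGrp.W p n Sk) →* (𝟙_ (Over Sk) ⟶ WittGrp.W p (n + 1) Sk) :=
      MonoidHom.mk' (fun w => w ≫ WittGrp.V p Sk (Nat.le_succ n)) fun a b => MonObj.mul_comp a b _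
    have hK' : K.comap φ = ⊤ := by
      refine eq_top_of_surj _ fun h c => ?_
      let e := (Scheme.ΓSpecIso (CommRingCat.of k)).commRingCatIsoToRingEquiv
      obtain ⟨r, hr⟩ := IsAlgClosed.exists_pow_nat_eq (e ((vec c).coeff 0)) hp.out.pos
      obtain ⟨x, hx, hxR⟩ := hK h1 (ofVec (TruncatedWittVector.mk p fun _ => e.symm r))
      refine ⟨x ≫ WittGrp.R p Sk (Nat.le_succ n) ≫ WittGrp.F p n Sk hS, ?_, ?_⟩
      · have e2 : x ^ p = (x ≫ WittGrp.R p Sk (Nat.le_succ n) ≫ WittGrp.F p n Sk hS) ≫
            WittGrp.V p Sk (Nat.le_succ n) := by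
          rw [Category.assoc, Category.assoc, ← pow_p_eq hS (Nat.le_succ n) le_rfl (Nat.succ_ne_self n).symm,
            MonObj.comp_pow, Category.comp_id]
        have hm := K.pow_mem hx p
        rw [e2] at hm
        exact hm
      · rw [Category.assoc, Category.assoc, F_R hS h, ← Category.assoc (WittGrp.R p Sk (Nat.le_succ n)),
          R_comp_R, ← Category.assoc, hxR]
        apply vec_ext
        rw [vec_F, vec_ofVec]
        refine TruncatedWittVector.ext fun i => ?_
        rw [WittGrp.coeff_frob, TruncatedWittVector.coeff_mk, Subsingleton.elim i 0]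
        apply e.injective
        rw [map_pow, e.apply_symm_apply, hr]
    refine eq_top_iff.2 fun z _ => ?_
    obtain ⟨x, hx, hxR⟩ := hK h1 (z ≫ WittGrp.R p Sk h1)
    obtain ⟨w, hw⟩ := exists_factor_V (Nat.le_succ n) h1 rfl (z * x⁻¹)
      (by rw [MonObj.mul_comp, GrpObj.inv_comp, hxR, mul_inv_cancel])
    have hwK : φ w ∈ K := Subgroup.mem_comap.1 (hK' ▸ Subgroup.mem_top w)
    have : z * x⁻¹ ∈ K := hw ▸ hwK
    simpa using K.mul_mem this hx

lemma isIso_of_full {n : ℕ} {H : Over Sk} (j : H ⟶ WittGrp.W p n Sk) [IsClosedImmersion j.left]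
    (hj : ∀ c : 𝟙_ (Over Sk) ⟶ WittGrp.W p n Sk, ∃ x, x ≫ j = c) : IsIso j := by
  haveI := isReduced_W (p := p) k n
  haveI : LocallyOfFiniteType (WittGrp.W p n Sk).hom := inferInstance
  haveI : JacobsonSpace (WittGrp.W p n Sk).left := LocallyOfFiniteType.jacobsonSpace (WittGrp.W p n Sk).hom
  haveI : Surjective j.left := by
    refine ⟨fun y => ?_⟩
    have hsub : closedPoints (WittGrp.W p n Sk).left ⊆ Set.range j.left.base := by
      intro y hy
      obtain ⟨P, hP⟩ := exists_point hy
      obtain ⟨x, hx⟩ := hj P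
      exact ⟨x.left.base pt₀, by rw [← hP, ← hx]; rfl⟩
    have h2 := closure_minimal hsub j.left.isClosedEmbedding.isClosed_range
    rw [closure_closedPoints] at h2
    exact h2 (Set.mem_univ y)
  haveI : IsIso j.left := isIso_of_isClosedImmersion_of_surjective j.left
  haveI : IsIso ((Over.forget Sk).map j) := ‹IsIso j.left›
  exact isIso_of_reflects_iso j (Over.forget Sk)

theorem isReduced_of_smooth' (H : Over Sk) [IsAffine H.left] [Smooth H.hom] : IsReduced H.left := by
  have hs : (H.hom.appTop).hom.Smooth := (HasRingHomProperty.iff_of_isAffine (P := @Smooth)).1 ‹_›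
  have hs' : (str H).Smooth := RingHom.Smooth.comp
    (RingHom.Smooth.of_bijective (f := (Scheme.ΓSpecIso (CommRingCat.of k)).inv.hom)
      (Scheme.ΓSpecIso (CommRingCat.of k)).symm.commRingCatIsoToRingEquiv.bijective) hs
  letI := (str H).toAlgebra
  haveI : Algebra.Smooth k Γ(H.left, ⊤) := hs'
  haveI : _root_.IsReduced Γ(H.left, ⊤) := AGFHull.isReduced_of_smooth k _
  exact isReduced_of_isOpenImmersion H.left.isoSpec.hom

theorem eq_range_V : ∀ {n : ℕ} (H : Over Sk) [GrpObj H] [Smooth H.hom] [ConnectedSpace H.left]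
    (j : H ⟶ WittGrp.W p n Sk) [IsMonHom j] [IsClosedImmersion j.left],
    ∃ (i : ℕ) (hi : i ≤ n) (e : H ≅ WittGrp.W p i Sk), e.hom ≫ WittGrp.V p Sk hi = j := by
  intro n
  induction n with
  | zero =>
    intro H _ _ _ j _ _
    haveI : IsIso j := isIso_of_full j fun c => ⟨1, eq_W_zero _ _⟩
    exact ⟨0, le_rfl, asIso j, by rw [V_self, Category.comp_id]; rfl⟩
  | succ n ih =>
    intro H _ _ _ j _ _
    haveI : IsAffine (WittGrp.W p (n + 1) Sk).left := isAffine_of_isAffineHom (WittGrp.W p (n + 1) Sk).hom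
    haveI : IsAffine H.left := isAffine_of_isAffineHom j.left
    haveI : QuasiCompact H.hom := by rw [← Over.w j]; infer_instance
    haveI : LocallyOfFiniteType H.hom := by rw [← Over.w j]; infer_instance
    haveI := isReduced_of_smooth' H
    have h1 : 1 ≤ n + 1 := Nat.le_add_left 1 n
    rcases eq_one_or_forall_lift (j ≫ WittGrp.R p Sk h1) with hg | hg
    · obtain ⟨y, hy⟩ := exists_factor_V (Nat.le_succ n) h1 rfl j hg
      haveI : IsMonHom (y ≫ WittGrp.V p Sk (Nat.le_succ n)) := by rw [hy]; infer_instance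
      haveI := isMonHom_of_comp_V (Nat.le_succ n) y
      haveI : IsClosedImmersion y.left := by
        haveI : IsClosedImmersion (y.left ≫ (WittGrp.V p Sk (Nat.le_succ n)).left) := by
          rw [← Over.comp_left, hy]; infer_instance
        haveI : IsSeparated ((WittGrp.V p Sk (Nat.le_succ n)).left ≫ (WittGrp.W p (n + 1) Sk).hom) := by
          rw [Over.w]; exact isSeparated_W
        haveI : IsSeparated (WittGrp.V p Sk (Nat.le_succ n)).left :=
          IsSeparated.of_comp _ (WittGrp.W p (n + 1) Sk).hom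
        exact IsClosedImmersion.of_comp _ (WittGrp.V p Sk (Nat.le_succ n)).left
      obtain ⟨i, hi, e, he⟩ := ih H y
      exact ⟨i, hi.trans (Nat.le_succ n), e, by rw [← hy, ← he, Category.assoc, V_comp_V]⟩
    · let φ : (𝟙_ (Over Sk) ⟶ H) →* (𝟙_ (Over Sk) ⟶ WittGrp.W p (n + 1) Sk) :=
        MonoidHom.mk' (fun x => x ≫ j) fun a b => MonObj.mul_comp a b j
      have htop : φ.range = ⊤ := by
        refine eq_top_of_surj _ fun h c => ?_
        obtain ⟨x, hx⟩ := hg c
        exact ⟨φ x, ⟨x, rfl⟩, by rw [← hx]; exact Category.assoc _ _ _⟩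
      haveI : IsIso j := isIso_of_full j fun c => by
        obtain ⟨x, hx⟩ := (MonoidHom.mem_range.1 (htop ▸ Subgroup.mem_top c))
        exact ⟨x, hx⟩
      exact ⟨n + 1, le_rfl, asIso j, by rw [V_self, Category.comp_id]; rfl⟩

end Groth.Agent.WittLib.Subgroup
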