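import Groth.Prelude.Def_WittGrp
import Groth.Prelude.Def_AlgGrp
import Mathlib.RingTheory.RingHom.Smooth
import Mathlib.AlgebraicGeometry.Morphisms.Smooth
import Mathlib.AlgebraicGeometry.Morphisms.RingHomProperties
import Mathlib.AlgebraicGeometry.Morphisms.Flat
import Mathlib.AlgebraicGeometry.Morphisms.Separated
import Mathlib.AlgebraicGeometry.Morphisms.ClosedImmersion

/-! Basics on the Witt group schemes `WittGrp.W`. -/

set_option autoImplicit false
universe u

open CategoryTheory CategoryTheory.Limits AlgebraicGeometry MonoidalCategory CartesianMonoidalCategory MonObj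

namespace Groth.Agent.WittLib.Basic

variable {p : ℕ} [hp : Fact p.Prime] {S : Scheme.{u}} {n m : ℕ}

set_option backward.isDefEq.respectTransparency.types false in
lemma smooth_affineSpace (J : Type u) [Finite J] (S : Scheme.{u}) : Smooth (AffineSpace J S ↘ S) :=
  haveI : MorphismProperty.IsStableUnderBaseChange @Smooth := inferInstance
  MorphismProperty.pullback_fst _ _ <| by
  have := isIso_of_isTerminal specULiftZIsTerminal.{u} terminalIsTerminal (terminal.from _)
  rw [← terminal.comp_from (Spec.map (CommRingCat.ofHom MvPolynomial.C)),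
    MorphismProperty.cancel_right_of_respectsIso (P := @Smooth),
    HasRingHomProperty.Spec_iff (P := @Smooth), CommRingCat.hom_ofHom, ← MvPolynomial.algebraMap_eq,
    RingHom.smooth_algebraMap]
  exact { }

instance smooth_W : Smooth (WittGrp.W p n S).hom := smooth_affineSpace _ S

instance isAffineHom_W : IsAffineHom (WittGrp.W p n S).hom :=
  inferInstanceAs (IsAffineHom (AffineSpace (ULift.{u} (Fin n)) S ↘ S))

instance isSeparated_W : IsSeparated (WittGrp.W p n S).hom := inferInstance

/-- The Witt vector of a point. -/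
noncomputable abbrev vec {T : Over S} (x : T ⟶ WittGrp.W p n S) :
    TruncatedWittVector p n Γ(T.left, ⊤) := WittGrp.pts p T (Additive.ofMul x)

lemma vec_ext {T : Over S} {x y : T ⟶ WittGrp.W p n S} (h : vec x = vec y) : x = y :=
  WittGrp.pts_injective p T h

lemma coeff_vec {T : Over S} (x : T ⟶ WittGrp.W p n S) (i : Fin n) :
    (vec x).coeff i = x.left.appTop (WittGrp.coord p i) := WittGrp.coeff_pts p T x i

lemma coeff_vec_comp {T T' : Over S} (g : T' ⟶ T) (x : T ⟶ WittGrp.W p n S) (i : Fin n) :
    (vec (g ≫ x)).coeff i = g.left.appTop ((vec x).coeff i) := by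
  unfold vec
  rw [WittGrp.pts_comp, WittGrp.coeff_truncMap]

/-- The point with a given Witt vector. -/
noncomputable def ofVec {T : Over S} (v : TruncatedWittVector p n Γ(T.left, ⊤)) : T ⟶ WittGrp.W p n S :=
  ((WittGrp.pts p T).symm v).toMul

@[simp] lemma vec_ofVec {T : Over S} (v : TruncatedWittVector p n Γ(T.left, ⊤)) :
    vec (ofVec (S := S) v) = v := (WittGrp.pts p T).apply_symm_apply v

lemma comp_ofVec {T T' : Over S} (g : T' ⟶ T) (v : TruncatedWittVector p n Γ(T.left, ⊤)) :
    g ≫ ofVec (S := S) v = ofVec (WittGrp.truncMap p n (g.left.appTop).hom v) := by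
  apply vec_ext
  unfold vec
  rw [WittGrp.pts_comp]
  exact congrArg _ (vec_ofVec v) |>.trans (vec_ofVec _).symm

lemma vec_mul {T : Over S} (x y : T ⟶ WittGrp.W p n S) : vec (x * y) = vec x + vec y :=
  WittGrp.pts_mul p T x y

lemma vec_one {T : Over S} : vec (1 : T ⟶ WittGrp.W p n S) = 0 := WittGrp.pts_one p T

lemma vec_pow {T : Over S} (x : T ⟶ WittGrp.W p n S) (k : ℕ) : vec (x ^ k) = k • vec x := by
  induction k with
  | zero => simp [vec_one]
  | succ k ih => rw [pow_succ, vec_mul, ih, succ_nsmul]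

lemma vec_R (h : n ≤ m) {T : Over S} (x : T ⟶ WittGrp.W p m S) :
    vec (x ≫ WittGrp.R p S h) = TruncatedWittVector.truncate h (vec x) := WittGrp.pts_R p h x

lemma vec_V (h : n ≤ m) {T : Over S} (x : T ⟶ WittGrp.W p n S) :
    vec (x ≫ WittGrp.V p S h) = WittGrp.shift p h (vec x) := WittGrp.pts_V p h x

lemma vec_F (hS : (p : Γ(S, ⊤)) = 0) {T : Over S} (x : T ⟶ WittGrp.W p n S) :
    vec (x ≫ WittGrp.F p n S hS) =
      WittGrp.frob p n (WittGrp.natCast_eq_zero_of_over p hS T) (vec x) := WittGrp.pts_F p hS x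

/-- Morphisms out of `W_n` are equal when they agree on all points. -/
lemma hom_ext {G : Over S} {f g : WittGrp.W p n S ⟶ G}
    (h : ∀ (T : Over S) (x : T ⟶ WittGrp.W p n S), x ≫ f = x ≫ g) : f = g := by
  simpa using h _ (𝟙 _)

lemma coeff_zero_add (x y : TruncatedWittVector p n Γ(S, ⊤)) (h : 0 < n) :
    (x + y).coeff ⟨0, h⟩ = x.coeff ⟨0, h⟩ + y.coeff ⟨0, h⟩ := by
  obtain ⟨X, rfl⟩ := WittVector.truncate_surjective p n _ x
  obtain ⟨Y, rfl⟩ := WittVector.truncate_surjective p n _ y
  rw [← map_add, WittVector.coeff_truncate, WittVector.coeff_truncate, WittVector.coeff_truncate]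
  exact WittVector.add_coeff_zero X Y

lemma truncate_shift {A : Type*} [CommRing A] {a b : ℕ} (h : a ≤ b) (k : ℕ)
    (h1 : a ≤ k) (h2 : k ≤ b) (hk : k ≤ b - a) (v : TruncatedWittVector p a A) :
    TruncatedWittVector.truncate h2 (WittGrp.shift p h v) = 0 :=
  TruncatedWittVector.ext fun i => by
    rw [TruncatedWittVector.coeff_truncate, WittGrp.coeff_shift, dif_neg (by simp; omega),
      TruncatedWittVector.coeff_zero]

/-- The kernel of the restriction consists of the shifts. -/
lemma exists_shift_of_truncate_eq_zero {A : Type*} [CommRing A] {a b c : ℕ} (ha : a ≤ c) (hb : b ≤ c)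
    (hab : a + b = c) (v : TruncatedWittVector p c A) (hv : TruncatedWittVector.truncate hb v = 0) :
    ∃ w : TruncatedWittVector p a A, WittGrp.shift p ha w = v := by
  refine ⟨TruncatedWittVector.mk p fun i => v.coeff ⟨i.val + b, by omega⟩, TruncatedWittVector.ext fun i => ?_⟩
  rw [WittGrp.coeff_shift]
  split_ifs with hi
  · rw [TruncatedWittVector.coeff_mk]
    congr 1
    ext
    simp; omega
  · have := congrArg (fun z => TruncatedWittVector.coeff (⟨i.val, by omega⟩ : Fin b) z) hv
    simp only [TruncatedWittVector.coeff_truncate, TruncatedWittVector.coeff_zero] at this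
    exact this.symm.trans (congrArg (fun j => v.coeff j) (Fin.ext (by simp)))

lemma shift_injective {A : Type*} [CommRing A] {a c : ℕ} (ha : a ≤ c) :
    Function.Injective (WittGrp.shift p ha : TruncatedWittVector p a A →+ _) := by
  intro x y h
  ext i
  have := congrArg (fun z => TruncatedWittVector.coeff (⟨i.val + (c - a), by omega⟩ : Fin c) z) h
  simp only [WittGrp.coeff_shift] at this
  rw [dif_pos (by simp), dif_pos (by simp)] at this
  convert this using 2 <;> (congr 1; ext; simp)

lemma isMonHom_of_points {G H : Over S} [GrpObj G] [GrpObj H] (f : G ⟶ H)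
    (hmul : ∀ (T : Over S) (x y : T ⟶ G), (x * y) ≫ f = (x ≫ f) * (y ≫ f)) : IsMonHom f :=
  WittGrp.isMonHom_of_comp_mul f
    (by simpa using hmul (𝟙_ (Over S)) 1 1) hmul

theorem isKernel_V_R (h1 : m ≤ n + m) (h2 : n ≤ n + m) :
    AlgGrp.IsKernel (WittGrp.V p S h1) (WittGrp.R p S h2) := by
  have w : WittGrp.V p S h1 ≫ WittGrp.R p S h2 = toUnit _ ≫ η[WittGrp.W p n S] := by
    refine hom_ext fun T x => vec_ext ?_
    rw [← Category.assoc, vec_R, vec_V]
    have : x ≫ toUnit _ ≫ η[WittGrp.W p n S] = 1 := by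
      rw [← Category.assoc, Hom.one_def]; congr 1; exact toUnit_unique _ _
    rw [this, vec_one]
    refine TruncatedWittVector.ext fun i => ?_
    rw [TruncatedWittVector.coeff_truncate, WittGrp.coeff_shift, dif_neg (by simp),
      TruncatedWittVector.coeff_zero]
  have hex : ∀ s : PullbackCone (WittGrp.R p S h2) η[WittGrp.W p n S],
      ∃ l : s.pt ⟶ WittGrp.W p m S, l ≫ WittGrp.V p S h1 = s.fst := by
    intro s
    have h0 : TruncatedWittVector.truncate h2 (vec s.fst) = 0 := by
      rw [← vec_R h2 s.fst, s.condition, ← vec_one (p := p) (S := S) (n := n) (T := s.pt)]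
      congr 2
      exact toUnit_unique _ _
    obtain ⟨w', hw'⟩ := exists_shift_of_truncate_eq_zero h1 h2 (Nat.add_comm m n) (vec s.fst) h0
    exact ⟨ofVec w', vec_ext (by rw [vec_V, vec_ofVec, hw'])⟩
  choose l hl using hex
  refine ⟨⟨w⟩, ⟨PullbackCone.IsLimit.mk w l hl (fun s => toUnit_unique _ _) fun s l' h' _ => ?_⟩⟩
  apply vec_ext
  apply shift_injective h1
  rw [← vec_V h1, ← vec_V h1, h', hl]

theorem isClosedImmersion_left_of_isKernel {N G Q : Over S} [GrpObj Q] [IsSeparated Q.hom]
    {i : N ⟶ G} {q : G ⟶ Q} (h : AlgGrp.IsKernel i q) : IsClosedImmersion i.left := by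
  have h' := IsPullback.map (Over.forget S) h
  haveI : IsClosedImmersion (η[Q] : 𝟙_ (Over S) ⟶ Q).left := by
    haveI : IsClosedImmersion ((η[Q] : 𝟙_ (Over S) ⟶ Q).left ≫ Q.hom) := by
      rw [Over.w]
      show IsClosedImmersion (𝟙 S)
      infer_instance
    exact IsClosedImmersion.of_comp _ Q.hom
  haveI : IsClosedImmersion ((Over.forget S).map (η[Q] : 𝟙_ (Over S) ⟶ Q)) := ‹_›
  exact MorphismProperty.of_isPullback h'.flip ‹_›

variable (p S n m) in
/-- `W_{n+m}` is `W_n × W_m` as a scheme. -/
noncomputable def combine : WittGrp.W p n S ⊗ WittGrp.W p m S ≅ WittGrp.W p (n + m) S where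
  hom := ofVec (TruncatedWittVector.mk p (Fin.append
    (fun i => (vec (fst (WittGrp.W p n S) (WittGrp.W p m S))).coeff i)
    (fun i => (vec (snd (WittGrp.W p n S) (WittGrp.W p m S))).coeff i)))
  inv := lift
    (ofVec (TruncatedWittVector.mk p fun i => (vec (𝟙 (WittGrp.W p (n + m) S))).coeff (Fin.castAdd m i)))
    (ofVec (TruncatedWittVector.mk p fun i => (vec (𝟙 (WittGrp.W p (n + m) S))).coeff (Fin.natAdd n i)))
  hom_inv_id := by
    apply CartesianMonoidalCategory.hom_ext <;> apply vec_ext <;> refine TruncatedWittVector.ext fun i => ?_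
    · rw [Category.id_comp, Category.assoc, lift_fst, comp_ofVec, vec_ofVec, WittGrp.coeff_truncMap,
        TruncatedWittVector.coeff_mk]
      refine (coeff_vec_comp _ (𝟙 _) _).symm.trans ?_
      rw [Category.comp_id, vec_ofVec, TruncatedWittVector.coeff_mk, Fin.append_left]
    · rw [Category.id_comp, Category.assoc, lift_snd, comp_ofVec, vec_ofVec, WittGrp.coeff_truncMap,
        TruncatedWittVector.coeff_mk]
      refine (coeff_vec_comp _ (𝟙 _) _).symm.trans ?_
      rw [Category.comp_id, vec_ofVec, TruncatedWittVector.coeff_mk, Fin.append_right]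
  inv_hom_id := by
    apply vec_ext
    refine TruncatedWittVector.ext fun i => ?_
    rw [comp_ofVec, vec_ofVec, WittGrp.coeff_truncMap, TruncatedWittVector.coeff_mk]
    refine Fin.addCases (fun j => ?_) (fun j => ?_) i
    · rw [Fin.append_left]
      refine (coeff_vec_comp _ (fst _ _) j).symm.trans ?_
      rw [lift_fst, vec_ofVec, TruncatedWittVector.coeff_mk]
    · rw [Fin.append_right]
      refine (coeff_vec_comp _ (snd _ _) j).symm.trans ?_
      rw [lift_snd, vec_ofVec, TruncatedWittVector.coeff_mk]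

lemma combine_R (h : n ≤ n + m) :
    (combine p S n m).hom ≫ WittGrp.R p S h = fst _ _ := by
  apply vec_ext
  refine TruncatedWittVector.ext fun i => ?_
  rw [vec_R, TruncatedWittVector.coeff_truncate]
  rw [combine, vec_ofVec, TruncatedWittVector.coeff_mk]
  exact Fin.append_left _ _ i

theorem flat_R_left (h : n ≤ n + m) : Flat (WittGrp.R p S h).left ∧ Surjective (WittGrp.R p S h).left := by
  have e : (WittGrp.R p S h).left = (combine p S n m).inv.left ≫ (fst (WittGrp.W p n S) (WittGrp.W p m S)).left := by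
    rw [← combine_R (m := m) h, ← Over.comp_left, Iso.inv_hom_id_assoc]
  haveI : IsIso (combine p S n m).inv.left := inferInstanceAs (IsIso ((Over.forget S).map (combine p S n m).inv))
  haveI : Surjective (WittGrp.W p m S).hom :=
    inferInstanceAs (Surjective (AffineSpace (ULift.{u} (Fin m)) S ↘ S))
  rw [e]
  change Flat (_ ≫ pullback.fst _ _) ∧ Surjective (_ ≫ pullback.fst _ _)
  exact ⟨inferInstance, inferInstance⟩

end Groth.Agent.WittLib.Basic
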