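import Groth.Agent.WittLib.Isogeny

/-! Lifting endomorphisms of `W_n` to `W_{n+1}`: the obstruction. -/

set_option autoImplicit false
universe u

open CategoryTheory CategoryTheory.Limits AlgebraicGeometry MonoidalCategory CartesianMonoidalCategory MonObj

namespace Groth.Agent.WittLib.Obstruction

open Groth.Agent.WittLib.Basic Groth.Agent.WittLib.Factor Groth.Agent.WittLib.Killed
  Groth.Agent.WittLib.Endo

variable {p : ℕ} [hp : Fact p.Prime] {k : Type u} [Field k] [CharP k p] [IsAlgClosed k]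

local notation "Sk" => Spec (CommRingCat.of k)

omit [IsAlgClosed k] in
lemma lin_one_eq_one_of_pow : ∀ (n M : ℕ) (a : ℕ → k),
    (lin p (n + 1) M a) ^ p ^ n = 1 → lin p 1 M a = 1
  | 0, M, a, h => by simpa using h
  | n + 1, M, a, h => by
    have hS : (p : Γ(Sk, ⊤)) = 0 := natCast_eq_zero_spec k
    haveI := isReduced_W (p := p) k (n + 1)
    haveI := isReduced_W (p := p) k 1
    rw [pow_succ', pow_mul] at h
    have e : (lin p (n + 2) M a) ^ p = WittGrp.R p Sk (Nat.le_succ (n + 1)) ≫ WittGrp.F p (n + 1) Sk hS ≫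
        lin p (n + 1) M (fun i => a i ^ p) ≫ WittGrp.V p Sk (Nat.le_succ (n + 1)) := by
      have h0 := MonObj.pow_comp (𝟙 (WittGrp.W p (n + 2) Sk)) p (lin p (n + 2) M a)
      rw [Category.id_comp] at h0
      rw [← h0, pow_p_eq hS (Nat.le_succ (n + 1)) le_rfl (Nat.succ_ne_self _).symm, Category.assoc,
        Category.assoc, V_lin]
      simp [Nat.add_sub_cancel_left]
    rw [e, ← MonObj.comp_pow, ← MonObj.comp_pow, ← MonObj.pow_comp] at h
    have h1 : WittGrp.F p (n + 1) Sk hS ≫ (lin p (n + 1) M (fun i => a i ^ p)) ^ p ^ n = 1 := by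
      apply eq_of_R_comp (Nat.le_succ (n + 1))
      apply eq_of_comp_V (Nat.le_succ (n + 1))
      simpa [MonObj.comp_one, MonObj.one_comp, Category.assoc] using h
    have h2 := lin_one_eq_one_of_pow n M (fun i => a i ^ p)
      (eq_of_F_comp hS (h1.trans (MonObj.comp_one _).symm))
    apply eq_of_comp_F hS
    rw [lin_F, h2, MonObj.comp_one, MonObj.one_comp]

lemma comp_R_one_eq_one_of_pow {n : ℕ} (G : WittGrp.W p (n + 1) Sk ⟶ WittGrp.W p (n + 1) Sk)
    [IsMonHom G] (hG : G ^ p ^ n = 1) : G ≫ WittGrp.R p Sk (Nat.le_add_left 1 n) = 1 := by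
  have hS : (p : Γ(Sk, ⊤)) = 0 := natCast_eq_zero_spec k
  obtain ⟨M, a, δ, hδ, rfl⟩ := exists_decomp G
  have e1 : (WittGrp.R p Sk (Nat.le_succ n) ≫ δ ≫ WittGrp.V p Sk (Nat.le_succ n)) ^ p ^ n = 1 := by
    rw [← Category.assoc, ← MonObj.pow_comp, pow_p_pow_eq_one hS, MonObj.one_comp]
  rw [mul_pow, e1, _root_.one_mul] at hG
  rcases Nat.eq_zero_or_pos n with rfl | hn
  · rw [pow_zero, pow_one] at hG
    rw [hG, _root_.mul_one, R_self, Category.comp_id, eq_W_zero δ 1, MonObj.one_comp, MonObj.comp_one]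
  · have hVR : WittGrp.V p Sk (Nat.le_succ n) ≫ WittGrp.R p Sk (Nat.le_add_left 1 n) = 1 := by
      refine hom_ext fun T x => vec_ext ?_
      rw [← Category.assoc, vec_R, vec_V, MonObj.comp_one, vec_one, Isogeny.truncate_shift' _ _ (by omega)]
    rw [MonObj.mul_comp, lin_R, lin_one_eq_one_of_pow n M a hG]
    simp only [Category.assoc, hVR, MonObj.comp_one, _root_.mul_one]

omit [IsAlgClosed k] in
/-- `∑ [aᵢ] F^i` is zero on every `W_j` if it is on `W_1`. -/
lemma lin_eq_one_of_lin_one (M : ℕ) (a : ℕ → k) (h : lin p 1 M a = 1) {j : ℕ} : lin p j M a = 1 := by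
  have hz : ∀ i < M, a i = 0 := by
    by_contra hne
    push Not at hne
    obtain ⟨i, hi, hai⟩ := hne
    apply Isogeny.natDegree_poly_ne_zero (p := p) hi hai
    let e := (Scheme.ΓSpecIso (CommRingCat.of (Polynomial k))).commRingCatIsoToRingEquiv
    let x : test (Polynomial k) ⟶ WittGrp.W p 1 Sk :=
      ofVec (TruncatedWittVector.mk p fun _ => e.symm Polynomial.X)
    have key := Isogeny.coeff_lin_one M a x
    rw [h, MonObj.comp_one, vec_one, TruncatedWittVector.coeff_zero, vec_ofVec,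
      TruncatedWittVector.coeff_mk] at key
    have hstr : str (test (k := k) (Polynomial k)) = e.symm.toRingHom.comp Polynomial.C :=
      RingHom.ext fun c => str_test _ c
    have he : (Isogeny.poly p M a).eval₂ (e.symm.toRingHom.comp Polynomial.C) (e.symm Polynomial.X) =
        e.symm (Isogeny.poly p M a) := by
      refine (Polynomial.hom_eval₂ _ _ e.symm.toRingHom _).symm.trans ?_
      rw [Polynomial.eval₂_C_X]
      rfl
    rw [hstr, he] at key
    rw [e.symm.injective (key.symm.trans (map_zero e.symm).symm), Polynomial.natDegree_zero]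
  refine hom_ext fun T x => vec_ext ?_
  rw [MonObj.comp_one, vec_one, vec_lin]
  refine Finset.sum_eq_zero fun i hi => TruncatedWittVector.ext fun l => ?_
  rw [coeff_term, hz i (Finset.mem_range.1 hi), map_zero, TruncatedWittVector.coeff_zero,
    zero_pow (pow_ne_zero _ hp.out.ne_zero), zero_mul]

omit [IsAlgClosed k] in
lemma V_R_one {n : ℕ} (hn : 1 ≤ n) :
    WittGrp.V p Sk (Nat.le_succ n) ≫ WittGrp.R p Sk (Nat.le_add_left 1 n) = 1 := by
  refine hom_ext fun T x => vec_ext ?_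
  rw [← Category.assoc, vec_R, vec_V, MonObj.comp_one, vec_one, Isogeny.truncate_shift' _ _ (by omega)]

/-- An endomorphism of `W_{n+1}` which is zero on the first component comes from `W_n`. -/
lemma exists_decomp_of_R_one {n : ℕ} (f : WittGrp.W p (n + 1) Sk ⟶ WittGrp.W p (n + 1) Sk) [IsMonHom f]
    (hf : f ≫ WittGrp.R p Sk (Nat.le_add_left 1 n) = 1) :
    ∃ δ : WittGrp.W p n Sk ⟶ WittGrp.W p n Sk, IsMonHom δ ∧
      f = WittGrp.R p Sk (Nat.le_succ n) ≫ δ ≫ WittGrp.V p Sk (Nat.le_succ n) := by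
  obtain ⟨M, a, δ, hδ, rfl⟩ := exists_decomp f
  refine ⟨δ, hδ, ?_⟩
  have hlin : lin p 1 M a = 1 := by
    apply eq_of_R_comp (Nat.le_add_left 1 n)
    rw [MonObj.comp_one, ← lin_R, ← hf, MonObj.mul_comp]
    rcases Nat.eq_zero_or_pos n with rfl | hn
    · rw [eq_W_zero δ 1, MonObj.one_comp, MonObj.comp_one, MonObj.one_comp, _root_.one_mul]
    · simp only [Category.assoc, V_R_one hn, MonObj.comp_one, _root_.one_mul]
  rw [lin_eq_one_of_lin_one M a hlin, _root_.mul_one]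

theorem lift_R_iff {n : ℕ} (f : WittGrp.W p (n + 1) Sk ⟶ WittGrp.W p (n + 1) Sk) [IsMonHom f] :
    (∃ g : WittGrp.W p (n + 1) Sk ⟶ WittGrp.W p (n + 2) Sk, IsMonHom g ∧
      g ≫ WittGrp.R p Sk (Nat.le_succ (n + 1)) = f) ↔ ¬ SGA7.IsIsogenyOver f := by
  have hS : (p : Γ(Sk, ⊤)) = 0 := natCast_eq_zero_spec k
  have h1 : 1 ≤ n + 1 := Nat.le_add_left 1 n
  constructor
  · rintro ⟨g, hg, rfl⟩
    haveI := hg
    refine Isogeny.not_isIsogenyOver h1 _ ?_
    have hG := comp_R_one_eq_one_of_pow (WittGrp.R p Sk (Nat.le_succ (n + 1)) ≫ g) (by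
      have hk : g ^ p ^ (n + 1) = 1 := by
        have e := MonObj.pow_comp (𝟙 (WittGrp.W p (n + 1) Sk)) (p ^ (n + 1)) g
        rw [Category.id_comp, pow_p_pow_eq_one hS, MonObj.one_comp] at e
        exact e.symm
      rw [← MonObj.comp_pow, hk, MonObj.comp_one])
    rw [Category.assoc] at hG
    apply eq_of_R_comp (Nat.le_succ (n + 1))
    rw [Category.assoc, R_comp_R, MonObj.comp_one, hG]
  · intro hiso
    have hf : f ≫ WittGrp.R p Sk h1 = 1 := by
      by_contra h
      exact hiso (Isogeny.isIsogenyOver_of_ne_one h1 f h)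
    obtain ⟨δ, hδ, rfl⟩ := exists_decomp_of_R_one f hf
    haveI := hδ
    obtain ⟨⟨ψ, hψ, hψR⟩, -⟩ := exists_lift_and_extend δ
    haveI := hψ
    refine ⟨ψ ≫ WittGrp.V p Sk (Nat.le_succ (n + 1)), inferInstance, ?_⟩
    rw [← Category.assoc _ δ, hψR, Category.assoc, Category.assoc,
      V_R (Nat.le_succ n) (Nat.le_succ (n + 1)) (Nat.le_succ n) (Nat.le_succ (n + 1))]

theorem extend_V_iff {n : ℕ} (g : WittGrp.W p (n + 1) Sk ⟶ WittGrp.W p (n + 1) Sk) [IsMonHom g] :
    (∃ g' : WittGrp.W p (n + 2) Sk ⟶ WittGrp.W p (n + 1) Sk, IsMonHom g' ∧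
      WittGrp.V p Sk (Nat.le_succ (n + 1)) ≫ g' = g) ↔ ¬ SGA7.IsIsogenyOver g := by
  have hS : (p : Γ(Sk, ⊤)) = 0 := natCast_eq_zero_spec k
  have h1 : 1 ≤ n + 1 := Nat.le_add_left 1 n
  constructor
  · rintro ⟨g', hg', rfl⟩
    haveI := hg'
    refine Isogeny.not_isIsogenyOver h1 _ ?_
    have hG := comp_R_one_eq_one_of_pow (g' ≫ WittGrp.V p Sk (Nat.le_succ (n + 1))) (by
      rw [← MonObj.pow_comp, pow_p_pow_eq_one hS, MonObj.one_comp])
    obtain ⟨δ, hδ, hdec⟩ := exists_decomp_of_R_one (g' ≫ WittGrp.V p Sk (Nat.le_succ (n + 1))) hG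
    haveI := hδ
    have hg : g' = WittGrp.R p Sk (Nat.le_succ (n + 1)) ≫ δ :=
      eq_of_comp_V (Nat.le_succ (n + 1)) (by rw [hdec, Category.assoc])
    rw [hg, ← Category.assoc (WittGrp.V p Sk _),
      ← V_R (p := p) (S := Sk) (Nat.le_succ n) (Nat.le_succ (n + 1)) (Nat.le_succ n) (Nat.le_succ (n + 1)),
      Category.assoc, Category.assoc]
    rcases Nat.eq_zero_or_pos n with rfl | hn
    · rw [eq_W_zero (WittGrp.R p Sk (Nat.le_succ 0)) 1, MonObj.one_comp]
    · obtain ⟨N, c, hc⟩ := exists_hom_to_W_one h1 (δ ≫ WittGrp.R p Sk h1)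
      rw [hc, reassoc_of% (V_R_one (p := p) (k := k) hn), MonObj.one_comp, MonObj.comp_one]
  · intro hiso
    have hf : g ≫ WittGrp.R p Sk h1 = 1 := by
      by_contra h
      exact hiso (Isogeny.isIsogenyOver_of_ne_one h1 g h)
    obtain ⟨δ, hδ, rfl⟩ := exists_decomp_of_R_one g hf
    haveI := hδ
    obtain ⟨-, τ, hτ, hτV⟩ := exists_lift_and_extend δ
    haveI := hτ
    refine ⟨WittGrp.R p Sk (Nat.le_succ (n + 1)) ≫ τ, inferInstance, ?_⟩
    rw [← Category.assoc,
      ← V_R (p := p) (S := Sk) (Nat.le_succ n) (Nat.le_succ (n + 1)) (Nat.le_succ n) (Nat.le_succ (n + 1)),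
      Category.assoc, hτV]

end Groth.Agent.WittLib.Obstruction
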