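import Mathlib.Algebra.Polynomial.Taylor
import Mathlib.Algebra.Polynomial.HasseDeriv
import Mathlib.RingTheory.MvPolynomial.Basic
import Mathlib.Data.Nat.Choose.Lucas
import Mathlib.Algebra.CharP.Defs

/-! Additive polynomials in characteristic `p`. -/

set_option autoImplicit false
universe u

namespace Groth.Agent.WittLib.AddPoly

open Polynomial

variable {k : Type u} [Field k] {p : ℕ} [hp : Fact p.Prime]

lemma not_dvd_choose (a q : ℕ) (hq : ¬ p ∣ q) : ¬ p ∣ (p ^ a * q).choose (p ^ a) := by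
  have h : ((p ^ a * q).choose (p ^ a)) ≡ q [MOD p] := by
    induction a with
    | zero => simp [Nat.ModEq]
    | succ a ih =>
      have h1 := Choose.choose_modEq_choose_mod_mul_choose_div_nat (p := p)
        (n := p ^ (a + 1) * q) (k := p ^ (a + 1))
      have e1 : p ^ (a + 1) * q % p = 0 := by rw [pow_succ', mul_assoc]; exact Nat.mul_mod_right _ _
      have e2 : p ^ (a + 1) % p = 0 := by rw [pow_succ']; exact Nat.mul_mod_right _ _
      have e3 : p ^ (a + 1) * q / p = p ^ a * q := by
        rw [pow_succ', mul_assoc]; exact Nat.mul_div_cancel_left _ hp.out.pos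
      have e4 : p ^ (a + 1) / p = p ^ a := by
        rw [pow_succ']; exact Nat.mul_div_cancel_left _ hp.out.pos
      rw [e1, e2, e3, e4, Nat.choose_self, _root_.one_mul] at h1
      exact h1.trans ih
  exact fun hd => hq (h.dvd_iff dvd_rfl |>.1 hd)

lemma eq_zero_or_isPow (Q : k[X]) [CharP k p]
    (h : Q.eval₂ (C.comp C) (C (X : k[X]) + (X : k[X][X])) = Q.eval₂ (C.comp C) (C (X : k[X])) + Q.eval₂ (C.comp C) (X : k[X][X]))
    (i : ℕ) : Q.coeff i = 0 ∨ ∃ j, i = p ^ j := by
  set f : k[X][X] := Q.map C with hf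
  have e1 : taylor (X : k[X]) f = C Q + f := by
    rw [taylor_apply, add_comm (X : k[X][X]) (C X)]
    rw [hf, comp, eval₂_map, h, eval₂_map_aux Q]
  have hder : ∀ j, 0 < j → hasseDeriv j Q = C (Q.coeff j) := by
    intro j hj
    have e2 := congrArg (fun g => g.coeff j) e1
    simp only [coeff_add, coeff_C_of_ne_zero hj.ne', zero_add, taylor_coeff, hf, coeff_map] at e2
    rw [← e2]
    have hm : hasseDeriv j (Q.map (C : k →+* k[X])) = (hasseDeriv j Q).map C := by
      ext1 m
      simp [hasseDeriv_coeff, coeff_map]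
    rw [hm, eval_map, eval₂_C_X]
  rcases Nat.eq_zero_or_pos i with rfl | hi
  · left
    have := congrArg (fun g => (g.coeff 0).coeff 0) e1
    simp only [coeff_add, coeff_C_zero, taylor_coeff_zero, hf, coeff_map, eval_map, eval₂_C_X] at this
    exact left_eq_add.1 this
  · obtain ⟨a, q, hq, rfl⟩ := Nat.exists_eq_pow_mul_and_not_dvd hi.ne' p hp.out.one_lt.ne'
    by_cases hq1 : q = 1
    · right; exact ⟨a, by rw [hq1, Nat.mul_one]⟩
    left
    have hq0 : q ≠ 0 := fun h => hq (h ▸ dvd_zero p)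
    have hlt : p ^ a < p ^ a * q := lt_mul_of_one_lt_right (pow_pos hp.out.pos a) (by omega)
    have e := congrArg (fun g => g.coeff (p ^ a * q - p ^ a)) (hder (p ^ a) (pow_pos hp.out.pos a))
    simp only [hasseDeriv_coeff, Nat.sub_add_cancel hlt.le] at e
    rw [coeff_C_of_ne_zero (by omega)] at e
    refine (mul_eq_zero.1 e).resolve_left ?_
    rw [CharP.cast_eq_zero_iff k p]
    exact not_dvd_choose a q hq
where
  eval₂_map_aux (Q : k[X]) :
      Q.eval₂ (C.comp C) (C (X : k[X])) + Q.eval₂ (C.comp C) (X : k[X][X]) = C Q + Q.map C := by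
    rw [eval₂_eq_sum (p := Q) (x := (X : k[X][X]))]
    congr 1
    · rw [← hom_eval₂, eval₂_C_X]
    · rw [Polynomial.map, eval₂_eq_sum]

end Groth.Agent.WittLib.AddPoly
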