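import Groth.Agent.WittLib.Factor

/-! `W_1` is killed by `p`; Frobenius is injective on reduced points. -/

set_option autoImplicit false
universe u

open CategoryTheory CategoryTheory.Limits AlgebraicGeometry MonoidalCategory CartesianMonoidalCategory MonObj

namespace Groth.Agent.WittLib.Killed

open Groth.Agent.WittLib.Basic Groth.Agent.WittLib.Factor

variable {p : ℕ} [hp : Fact p.Prime] {S : Scheme.{u}} {n : ℕ}

lemma natCast_eq_zero_spec (k : Type u) [Field k] [CharP k p] :
    (p : Γ(Spec (CommRingCat.of k), ⊤)) = 0 := by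
  apply (Scheme.ΓSpecIso (CommRingCat.of k)).commRingCatIsoToRingEquiv.injective
  rw [map_natCast, map_zero]
  exact CharP.cast_eq_zero k p

lemma coeff_zero_nsmul {A : Scheme.{u}} (v : TruncatedWittVector p n Γ(A, ⊤)) (h : 0 < n) :
    ∀ j : ℕ, (j • v).coeff ⟨0, h⟩ = j • v.coeff ⟨0, h⟩
  | 0 => by simp [TruncatedWittVector.coeff_zero]
  | j + 1 => by rw [succ_nsmul, coeff_zero_add _ _ h, coeff_zero_nsmul v h j, succ_nsmul]

lemma pow_p_eq_one_of_W_one (hS : (p : Γ(S, ⊤)) = 0) {T : Over S} (x : T ⟶ WittGrp.W p 1 S) :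
    x ^ p = 1 := by
  apply vec_ext
  rw [vec_pow, vec_one]
  refine TruncatedWittVector.ext fun i => ?_
  rw [Subsingleton.elim i ⟨0, Nat.one_pos⟩, coeff_zero_nsmul, TruncatedWittVector.coeff_zero,
    nsmul_eq_mul, WittGrp.natCast_eq_zero_of_over p hS T, zero_mul]

lemma eq_of_comp_F (hS : (p : Γ(S, ⊤)) = 0) {T : Over S} [IsReduced T.left]
    {x y : T ⟶ WittGrp.W p n S} (h : x ≫ WittGrp.F p n S hS = y ≫ WittGrp.F p n S hS) : x = y := by
  rcases subsingleton_or_nontrivial Γ(T.left, ⊤) with hh | hh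
  · exact vec_ext (TruncatedWittVector.ext fun i => Subsingleton.elim _ _)
  · haveI : CharP Γ(T.left, ⊤) p :=
      (CharP.charP_iff_prime_eq_zero hp.out).2 (WittGrp.natCast_eq_zero_of_over p hS T)
    refine vec_ext (TruncatedWittVector.ext fun i => ?_)
    have := congrArg (fun q => (vec q).coeff i) h
    simp only [vec_F, WittGrp.coeff_frob] at this
    refine sub_eq_zero.1 (eq_zero_of_pow_eq_zero (n := p) ?_)
    rw [sub_pow_char, this, sub_self]

end Groth.Agent.WittLib.Killed
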