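import Mathlib.RingTheory.WittVector.Teichmuller
import Mathlib.RingTheory.WittVector.Truncated
import Mathlib.RingTheory.MvPolynomial.Basic
import Mathlib.Algebra.MvPolynomial.Invertible
import Mathlib.Algebra.CharP.Invertible

/-! Multiplication by a Teichmüller representative in coefficients. -/

set_option autoImplicit false

namespace Groth.Agent.WittLib.Teich

open WittVector

variable (p : ℕ) [hp : Fact p.Prime] {R : Type*} [CommRing R]

/-- Componentwise formula. -/
def twist (a : R) (x : WittVector p R) : WittVector p R :=
  WittVector.mk p fun i => a ^ p ^ i * x.coeff i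

theorem map_twist {S : Type*} [CommRing S] (f : R →+* S) (a : R) (x : WittVector p R) :
    WittVector.map f (twist p a x) = twist p (f a) (WittVector.map f x) := by
  ext i
  simp [twist]

theorem twist_aux₁ {σ : Type*} (a : MvPolynomial σ ℚ) (x : WittVector p (MvPolynomial σ ℚ)) :
    teichmuller p a * x = twist p a x := by
  apply (ghostMap.bijective_of_invertible p (MvPolynomial σ ℚ)).1
  rw [map_mul]
  ext1 n
  simp only [Pi.mul_apply, ghostMap_apply]
  rw [ghostComponent_teichmuller]
  simp only [ghostComponent_apply, aeval_wittPolynomial, Finset.mul_sum, twist, WittVector.coeff_mk]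
  refine Finset.sum_congr rfl fun i hi => ?_
  rw [mul_pow, ← pow_mul, ← pow_add, Nat.add_sub_cancel' (Nat.lt_succ_iff.1 (Finset.mem_range.1 hi))]
  ring

theorem twist_aux₂ {σ : Type*} (a : MvPolynomial σ ℤ) (x : WittVector p (MvPolynomial σ ℤ)) :
    teichmuller p a * x = twist p a x := by
  refine map_injective (MvPolynomial.map (Int.castRingHom ℚ))
    (MvPolynomial.map_injective _ Int.cast_injective) ?_
  simp only [map_mul, map_teichmuller, map_twist, twist_aux₁]

theorem teichmuller_mul_eq_twist (a : R) (x : WittVector p R) : teichmuller p a * x = twist p a x := by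
  obtain ⟨a, rfl⟩ := MvPolynomial.counit_surjective R a
  obtain ⟨x, rfl⟩ : ∃ y, WittVector.map (MvPolynomial.counit R) y = x :=
    map_surjective _ (MvPolynomial.counit_surjective R) x
  simp only [← map_teichmuller, ← map_mul, ← map_twist, twist_aux₂]

theorem coeff_teichmuller_mul (a : R) (x : WittVector p R) (i : ℕ) :
    (teichmuller p a * x).coeff i = a ^ p ^ i * x.coeff i := by
  rw [teichmuller_mul_eq_twist]
  simp [twist]

theorem coeff_truncate_teichmuller_mul {n : ℕ} (a : R) (x : TruncatedWittVector p n R) (i : Fin n) :
    (WittVector.truncate n (teichmuller p a) * x).coeff i = a ^ p ^ i.val * x.coeff i := by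
  obtain ⟨X, rfl⟩ := WittVector.truncate_surjective p n _ x
  rw [← map_mul, WittVector.coeff_truncate, WittVector.coeff_truncate, coeff_teichmuller_mul]

end Groth.Agent.WittLib.Teich
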