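import Groth.Agent.WittLib.AddPoly
import Groth.Agent.WittLib.Teich
import Groth.Agent.WittLib.Killed
import Mathlib.FieldTheory.IsAlgClosed.Basic

/-! Endomorphisms of Witt group schemes over an algebraically closed field: the operators
`∑ [aᵢ] F^i` and lifting of endomorphisms along `R` and `V`. -/

set_option autoImplicit false
universe u

open CategoryTheory CategoryTheory.Limits AlgebraicGeometry MonoidalCategory CartesianMonoidalCategory MonObj

namespace Groth.Agent.WittLib.Endo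

open Groth.Agent.WittLib.Basic Groth.Agent.WittLib.Factor Groth.Agent.WittLib.Killed
  Groth.Agent.WittLib.Teich

variable {p : ℕ} [hp : Fact p.Prime] {k : Type u} [Field k]

local notation "Sk" => Spec (CommRingCat.of k)

/-- The structure map of the functions of a scheme over `k`. -/
noncomputable def str (T : Over Sk) : k →+* Γ(T.left, ⊤) :=
  ((Scheme.ΓSpecIso (CommRingCat.of k)).inv ≫ T.hom.appTop).hom

lemma str_comp {T T' : Over Sk} (g : T' ⟶ T) (c : k) : g.left.appTop (str T c) = str T' c := by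
  simp only [str]
  rw [← Over.w g, Scheme.Hom.comp_appTop]
  rfl

/-- The scheme `Spec A` over `k`. -/
noncomputable abbrev test (A : Type u) [CommRing A] [Algebra k A] : Over Sk :=
  Over.mk (Spec.map (CommRingCat.ofHom (algebraMap k A)))

lemma str_test (A : Type u) [CommRing A] [Algebra k A] (c : k) :
    str (test (k := k) A) c = (Scheme.ΓSpecIso (CommRingCat.of A)).inv (algebraMap k A c) := by
  simp only [str, test, Over.mk_hom]
  rw [← Scheme.ΓSpecIso_inv_naturality]
  rfl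

/-- Functions on `W_n` are polynomials in the coordinates. -/
lemma exists_mvPoly (n : ℕ) (γ : Γ((WittGrp.W p n Sk).left, ⊤)) :
    ∃ P : MvPolynomial (ULift.{u} (Fin n)) k, ∀ {T : Over Sk} (x : T ⟶ WittGrp.W p n Sk),
      x.left.appTop γ = MvPolynomial.eval₂ (str T) (fun j => (vec x).coeff j.down) P := by
  let e := AffineSpace.SpecIso (ULift.{u} (Fin n)) (CommRingCat.of k)
  let δ := e.inv.appTop γ
  have hδ : e.hom.appTop δ = γ := by
    change (e.inv.appTop ≫ e.hom.appTop) γ = γ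
    rw [← Scheme.Hom.comp_appTop, e.hom_inv_id]
    rfl
  refine ⟨(Scheme.ΓSpecIso _).hom δ, fun {T} x => ?_⟩
  rw [← hδ, AffineSpace.SpecIso_hom_appTop]
  refine (MvPolynomial.eval₂_comp_left (x.left.appTop).hom _ _ _).trans ?_
  congr 1
  · exact RingHom.ext fun c => str_comp x c

section Lin

variable [CharP k p] {n m : ℕ}

lemma natCast_eq_zero (T : Over Sk) : (p : Γ(T.left, ⊤)) = 0 :=
  WittGrp.natCast_eq_zero_of_over p (natCast_eq_zero_spec k) T

lemma coeff_iterate_frob {R : Type*} [CommRing R] (h : (p : R) = 0) (i : ℕ)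
    (v : TruncatedWittVector p n R) (j : Fin n) :
    ((WittGrp.frob p n h)^[i] v).coeff j = v.coeff j ^ p ^ i := by
  induction i with
  | zero => simp
  | succ i ih => rw [Function.iterate_succ_apply', WittGrp.coeff_frob, ih, ← pow_mul, pow_succ]

/-- The summand `[a] F^i`. -/
noncomputable def term (T : Over Sk) (i : ℕ) (c : k) (v : TruncatedWittVector p n Γ(T.left, ⊤)) :
    TruncatedWittVector p n Γ(T.left, ⊤) :=
  WittVector.truncate n (WittVector.teichmuller p (str T c)) *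
    (WittGrp.frob p n (natCast_eq_zero T))^[i] v

lemma coeff_term (T : Over Sk) (i : ℕ) (c : k) (v : TruncatedWittVector p n Γ(T.left, ⊤)) (j : Fin n) :
    (term T i c v).coeff j = str T c ^ p ^ j.val * v.coeff j ^ p ^ i := by
  rw [term, coeff_truncate_teichmuller_mul, coeff_iterate_frob]

lemma term_add (T : Over Sk) (i : ℕ) (c : k) (v w : TruncatedWittVector p n Γ(T.left, ⊤)) :
    term T i c (v + w) = term T i c v + term T i c w := by
  rw [term, iterate_map_add, mul_add]; rfl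

variable (p n) in
/-- The endomorphism `∑_{i<M} [aᵢ] F^i` of `W_n`. -/
noncomputable def lin (M : ℕ) (a : ℕ → k) : WittGrp.W p n Sk ⟶ WittGrp.W p n Sk :=
  ofVec (∑ i ∈ Finset.range M, term _ i (a i) (vec (𝟙 (WittGrp.W p n Sk))))

lemma vec_lin (M : ℕ) (a : ℕ → k) {T : Over Sk} (x : T ⟶ WittGrp.W p n Sk) :
    vec (x ≫ lin p n M a) = ∑ i ∈ Finset.range M, term T i (a i) (vec x) := by
  rw [lin, comp_ofVec, vec_ofVec, map_sum]
  refine Finset.sum_congr rfl fun i _ => TruncatedWittVector.ext fun j => ?_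
  rw [WittGrp.coeff_truncMap, coeff_term, coeff_term, map_mul, map_pow, map_pow, str_comp x,
    ← coeff_vec_comp x (𝟙 _), Category.comp_id]

instance isMonHom_lin (M : ℕ) (a : ℕ → k) : IsMonHom (lin p n M a) :=
  isMonHom_of_points _ fun T x y => vec_ext (by
    simp only [vec_lin, vec_mul, term_add, Finset.sum_add_distrib])

lemma lin_R (M : ℕ) (a : ℕ → k) (h : n ≤ m) :
    lin p m M a ≫ WittGrp.R p Sk h = WittGrp.R p Sk h ≫ lin p n M a := by
  refine hom_ext fun T x => vec_ext ?_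
  rw [← Category.assoc, ← Category.assoc, vec_R, vec_lin, vec_lin, vec_R, map_sum]
  refine Finset.sum_congr rfl fun i _ => TruncatedWittVector.ext fun j => ?_
  simp only [TruncatedWittVector.coeff_truncate, coeff_term]
  rfl

lemma V_lin (M : ℕ) (a : ℕ → k) (h : n ≤ m) :
    WittGrp.V p Sk h ≫ lin p m M a = lin p n M (fun i => a i ^ p ^ (m - n)) ≫ WittGrp.V p Sk h := by
  refine hom_ext fun T x => vec_ext ?_
  rw [← Category.assoc, ← Category.assoc, vec_V, vec_lin, vec_lin, vec_V, map_sum]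
  refine Finset.sum_congr rfl fun i _ => TruncatedWittVector.ext fun j => ?_
  simp only [coeff_term, WittGrp.coeff_shift]
  split_ifs with hj
  · rw [map_pow, ← pow_mul, ← pow_add]
    congr 3
    omega
  · rw [zero_pow (pow_ne_zero _ hp.out.ne_zero), mul_zero]

lemma lin_F (hS : (p : Γ(Sk, ⊤)) = 0) (M : ℕ) (a : ℕ → k) :
    lin p n M a ≫ WittGrp.F p n Sk hS = WittGrp.F p n Sk hS ≫ lin p n M (fun i => a i ^ p) := by
  refine hom_ext fun T x => vec_ext ?_
  rw [← Category.assoc, ← Category.assoc, vec_F, vec_lin, vec_lin, vec_F, map_sum]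
  refine Finset.sum_congr rfl fun i _ => TruncatedWittVector.ext fun j => ?_
  simp only [coeff_term, WittGrp.coeff_frob, mul_pow, map_pow]
  ring

end Lin

section Comm

variable {S : Scheme.{u}} {n m : ℕ}

lemma V_R (h : n ≤ m) (h' : m ≤ m + 1) (h'' : n ≤ n + 1) (h''' : n + 1 ≤ m + 1) :
    WittGrp.R p S h'' ≫ WittGrp.V p S h = WittGrp.V p S h''' ≫ WittGrp.R p S h' := by
  refine hom_ext fun T x => vec_ext ?_
  rw [← Category.assoc, ← Category.assoc, vec_R, vec_V, vec_V, vec_R]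
  refine TruncatedWittVector.ext fun j => ?_
  simp only [TruncatedWittVector.coeff_truncate, WittGrp.coeff_shift, Fin.val_castLE]
  split_ifs with h1 h2 h2
  · congr 1; ext; simp
  · omega
  · omega
  · rfl

lemma F_R (hS : (p : Γ(S, ⊤)) = 0) (h : n ≤ m) :
    WittGrp.F p m S hS ≫ WittGrp.R p S h = WittGrp.R p S h ≫ WittGrp.F p n S hS := by
  refine hom_ext fun T x => vec_ext ?_
  rw [← Category.assoc, ← Category.assoc, vec_R, vec_F, vec_F, vec_R]
  exact TruncatedWittVector.ext fun j => by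
    simp only [TruncatedWittVector.coeff_truncate, WittGrp.coeff_frob]

lemma eq_W_zero {T : Over S} (x y : T ⟶ WittGrp.W p 0 S) : x = y :=
  vec_ext (TruncatedWittVector.ext fun i => i.elim0)

lemma pow_p_pow_eq_one (hS : (p : Γ(S, ⊤)) = 0) :
    ∀ {n : ℕ} {T : Over S} (x : T ⟶ WittGrp.W p n S), x ^ p ^ n = 1
  | 0, _, _ => eq_W_zero _ _
  | n + 1, T, x => by
    rw [pow_succ', pow_mul]
    have : x ^ p = x ≫ (𝟙 (WittGrp.W p (n + 1) S)) ^ p := by rw [MonObj.comp_pow, Category.comp_id]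
    rw [this, pow_p_eq hS (Nat.le_succ n) le_rfl (Nat.succ_ne_self n).symm, ← Category.assoc,
      ← Category.assoc, ← MonObj.pow_comp, pow_p_pow_eq_one hS, MonObj.one_comp]

lemma isMonHom_mul {G H : Over S} [GrpObj G] [GrpObj H] [IsCommMonObj H] (f g : G ⟶ H)
    [IsMonHom f] [IsMonHom g] : IsMonHom (f * g) :=
  isMonHom_of_points _ fun T x y => by
    simp only [MonObj.comp_mul, MonObj.mul_comp]
    exact mul_mul_mul_comm _ _ _ _

lemma isMonHom_inv {G H : Over S} [GrpObj G] [GrpObj H] [IsCommMonObj H] (f : G ⟶ H)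
    [IsMonHom f] : IsMonHom f⁻¹ :=
  isMonHom_of_points _ fun T x y => by
    simp only [GrpObj.comp_inv, MonObj.mul_comp]
    exact mul_inv _ _

end Comm

section AlgClosed

variable [CharP k p]

/-- Endomorphisms of `W_1` are additive polynomials. -/
theorem exists_lin_one (h : WittGrp.W p 1 Sk ⟶ WittGrp.W p 1 Sk) [IsMonHom h] :
    ∃ (M : ℕ) (a : ℕ → k), h = lin p 1 M a := by
  obtain ⟨P, hP⟩ := exists_mvPoly 1 (h.left.appTop (WittGrp.coord p 0))
  set Q : Polynomial k := MvPolynomial.eval₂ Polynomial.C (fun _ => Polynomial.X) P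
  have hQ : ∀ {T : Over Sk} (x : T ⟶ WittGrp.W p 1 Sk),
      (vec (x ≫ h)).coeff 0 = Q.eval₂ (str T) ((vec x).coeff 0) := by
    intro T x
    rw [coeff_vec, Over.comp_left, Scheme.Hom.comp_appTop, CommRingCat.comp_apply, hP x]
    rw [← Polynomial.coe_eval₂RingHom, MvPolynomial.eval₂_comp_left]
    congr 1
    · exact RingHom.ext fun c => (Polynomial.eval₂_C (str T) _).symm
    · funext j
      rw [Function.comp_apply, Polynomial.coe_eval₂RingHom, Polynomial.eval₂_X,
        Subsingleton.elim j.down 0]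
  have hc0 : ∀ {T : Over Sk} (v w : TruncatedWittVector p 1 Γ(T.left, ⊤)),
      (v + w).coeff 0 = v.coeff 0 + w.coeff 0 := fun v w => coeff_zero_add v w Nat.one_pos
  have hadd : ∀ i, Q.coeff i = 0 ∨ ∃ j, i = p ^ j := by
    refine AddPoly.eq_zero_or_isPow Q ?_
    let T : Over Sk := test (Polynomial (Polynomial k))
    let e := (Scheme.ΓSpecIso (CommRingCat.of (Polynomial (Polynomial k)))).commRingCatIsoToRingEquiv
    let pt : Polynomial (Polynomial k) → (T ⟶ WittGrp.W p 1 Sk) := fun c =>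
      ofVec (TruncatedWittVector.mk p fun _ => e.symm c)
    have key := congrArg (fun q => (vec q).coeff 0)
      (MonObj.mul_comp (pt (Polynomial.C Polynomial.X)) (pt Polynomial.X) h)
    simp only [hQ, vec_mul, hc0, pt, vec_ofVec, TruncatedWittVector.coeff_mk] at key
    rw [← map_add e.symm] at key
    have hstr : str T = e.symm.toRingHom.comp ((Polynomial.C).comp Polynomial.C) :=
      RingHom.ext fun c => str_test _ c
    rw [hstr] at key
    have hcomp : ∀ c, Q.eval₂ (e.symm.toRingHom.comp ((Polynomial.C).comp Polynomial.C)) (e.symm c) =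
        e.symm (Q.eval₂ ((Polynomial.C).comp Polynomial.C) c) := fun c =>
      (Polynomial.hom_eval₂ _ _ e.symm.toRingHom _).symm
    rw [hcomp, hcomp, hcomp, ← map_add] at key
    exact e.symm.injective key
  refine ⟨Q.natDegree + 1, fun i => Q.coeff (p ^ i), hom_ext fun T x => vec_ext ?_⟩
  refine TruncatedWittVector.ext fun j => ?_
  rw [Subsingleton.elim j 0, hQ, vec_lin]
  have hsum : ∀ (f : ℕ → TruncatedWittVector p 1 Γ(T.left, ⊤)) (s : Finset ℕ),
      (∑ i ∈ s, f i).coeff 0 = ∑ i ∈ s, (f i).coeff 0 := fun f s => by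
    induction s using Finset.induction_on with
    | empty => simp [TruncatedWittVector.coeff_zero]
    | insert a s has ih => rw [Finset.sum_insert has, Finset.sum_insert has, hc0, ih]
  rw [hsum]
  rw [Polynomial.eval₂_eq_sum_range' (str T) (n := p ^ (Q.natDegree + 1))
    ((Nat.lt_succ_self _).trans (Nat.lt_pow_self hp.out.one_lt))]
  rw [← Finset.sum_subset (s₁ := (Finset.range (Q.natDegree + 1)).image (p ^ ·))
    (Finset.image_subset_iff.2 fun i hi => Finset.mem_range.2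
      (Nat.pow_lt_pow_right hp.out.one_lt (Finset.mem_range.1 hi)))]
  · rw [Finset.sum_image fun i _ j _ hij => Nat.pow_right_injective hp.out.two_le hij]
    refine Finset.sum_congr rfl fun i _ => ?_
    simp [coeff_term]
  · intro i hi hni
    rcases hadd i with h0 | ⟨j, rfl⟩
    · rw [h0, map_zero, zero_mul]
    · refine absurd (Finset.mem_image.2 ⟨j, Finset.mem_range.2 ?_, rfl⟩) hni
      exact (Nat.pow_lt_pow_iff_right hp.out.one_lt).1 (Finset.mem_range.1 hi)

variable [IsAlgClosed k]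

theorem exists_hom_to_W_one {n : ℕ} (hn : 1 ≤ n) (h : WittGrp.W p n Sk ⟶ WittGrp.W p 1 Sk)
    [IsMonHom h] : ∃ (M : ℕ) (a : ℕ → k), h = WittGrp.R p Sk hn ≫ lin p 1 M a := by
  have hS : (p : Γ(Sk, ⊤)) = 0 := natCast_eq_zero_spec k
  haveI : IsSeparated (WittGrp.W p 1 Sk).hom := isSeparated_W
  have hV := V_comp_eq_one k 1 (Nat.sub_le n 1) (by omega) h
    (by rw [pow_one]; exact pow_p_eq_one_of_W_one hS h)
  obtain ⟨g, ⟨hg, hgR⟩, -⟩ := existsUnique_factor_R hn (Nat.sub_le n 1) (by omega) h hV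
  haveI := hg
  obtain ⟨M, a, rfl⟩ := exists_lin_one g
  exact ⟨M, a, hgR.symm⟩

lemma exists_root (N : ℕ) (a : ℕ → k) : ∃ b : ℕ → k, (fun i => b i ^ p ^ N) = a := by
  choose b hb using fun i => IsAlgClosed.exists_pow_nat_eq (a i) (pow_pos hp.out.pos N)
  exact ⟨b, funext hb⟩

/-- Decomposition of an endomorphism of `W_{n+1}`. -/
theorem exists_decomp {n : ℕ} (φ : WittGrp.W p (n + 1) Sk ⟶ WittGrp.W p (n + 1) Sk) [IsMonHom φ] :
    ∃ (M : ℕ) (a : ℕ → k) (δ : WittGrp.W p n Sk ⟶ WittGrp.W p n Sk), IsMonHom δ ∧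
      φ = (WittGrp.R p Sk (Nat.le_succ n) ≫ δ ≫ WittGrp.V p Sk (Nat.le_succ n)) * lin p (n + 1) M a := by
  have hS : (p : Γ(Sk, ⊤)) = 0 := natCast_eq_zero_spec k
  have h1 : 1 ≤ n + 1 := Nat.le_add_left 1 n
  obtain ⟨M, a, ha⟩ := exists_hom_to_W_one h1 (φ ≫ WittGrp.R p Sk h1)
  haveI := isMonHom_inv (lin p (n + 1) M a)
  haveI := isMonHom_mul φ (lin p (n + 1) M a)⁻¹
  set δ₀ := φ * (lin p (n + 1) M a)⁻¹ with hδ₀
  have hR : δ₀ ≫ WittGrp.R p Sk h1 = 1 := by
    rw [hδ₀, MonObj.mul_comp, GrpObj.inv_comp, lin_R, ha, mul_inv_cancel]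
  obtain ⟨δ₁, hδ₁⟩ := exists_factor_V (Nat.le_succ n) h1 rfl δ₀ hR
  haveI : IsMonHom (δ₁ ≫ WittGrp.V p Sk (Nat.le_succ n)) := by rw [hδ₁]; infer_instance
  haveI := isMonHom_of_comp_V (Nat.le_succ n) δ₁
  haveI : IsSeparated (WittGrp.W p n Sk).hom := isSeparated_W
  have hV := V_comp_eq_one k n h1 (by omega) δ₁ (pow_p_pow_eq_one hS δ₁)
  obtain ⟨δ, ⟨hδ, hδR⟩, -⟩ := existsUnique_factor_R (Nat.le_succ n) h1 (by omega) δ₁ hV
  refine ⟨M, a, δ, hδ, ?_⟩
  rw [← Category.assoc, hδR, hδ₁, hδ₀, inv_mul_cancel_right]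

/-- Endomorphisms lift along `R` and extend along `V`. -/
theorem exists_lift_and_extend : ∀ {n : ℕ} (φ : WittGrp.W p n Sk ⟶ WittGrp.W p n Sk) [IsMonHom φ],
    (∃ ψ : WittGrp.W p (n + 1) Sk ⟶ WittGrp.W p (n + 1) Sk, IsMonHom ψ ∧
      WittGrp.R p Sk (Nat.le_succ n) ≫ φ = ψ ≫ WittGrp.R p Sk (Nat.le_succ n)) ∧
    (∃ τ : WittGrp.W p (n + 1) Sk ⟶ WittGrp.W p (n + 1) Sk, IsMonHom τ ∧
      φ ≫ WittGrp.V p Sk (Nat.le_succ n) = WittGrp.V p Sk (Nat.le_succ n) ≫ τ)
  | 0, φ, _ => by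
    refine ⟨⟨lin p 1 0 0, inferInstance, eq_W_zero _ _⟩, ⟨lin p 1 0 0, inferInstance, ?_⟩⟩
    rw [V_lin, eq_W_zero φ]
  | n + 1, φ, _ => by
    obtain ⟨M, a, δ, hδ, hφ⟩ := exists_decomp φ
    haveI := hδ
    obtain ⟨⟨ψ, hψ, hψR⟩, ⟨τ, hτ, hτV⟩⟩ := exists_lift_and_extend δ
    haveI := hψ
    haveI := hτ
    have hRV := V_R (p := p) (S := Sk) (Nat.le_succ n) (Nat.le_succ (n + 1)) (Nat.le_succ n)
      (Nat.le_succ (n + 1))
    obtain ⟨b, hb⟩ := exists_root 1 a
    constructor
    · refine ⟨(WittGrp.R p Sk (Nat.le_succ (n + 1)) ≫ ψ ≫ WittGrp.V p Sk (Nat.le_succ (n + 1))) *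
        lin p (n + 2) M a, isMonHom_mul _ _, ?_⟩
      rw [MonObj.mul_comp, lin_R, hφ, MonObj.comp_mul]
      refine congrArg (· * _) ?_
      rw [Category.assoc, Category.assoc, ← hRV, ← Category.assoc (WittGrp.R p Sk _) δ, hψR,
        Category.assoc]
    · refine ⟨(WittGrp.R p Sk (Nat.le_succ (n + 1)) ≫ τ ≫ WittGrp.V p Sk (Nat.le_succ (n + 1))) *
        lin p (n + 2) M b, isMonHom_mul _ _, ?_⟩
      rw [MonObj.comp_mul, hφ, MonObj.mul_comp, V_lin]
      refine congrArg₂ (· * ·) ?_ ?_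
      · rw [Category.assoc, Category.assoc, reassoc_of% hτV, reassoc_of% hRV]
      · have he : (fun i => b i ^ p ^ (n + 2 - (n + 1))) = a := by
          simp only [show n + 2 - (n + 1) = 1 by omega]
          exact hb
        rw [he]

end AlgClosed

end Groth.Agent.WittLib.Endo
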