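import Groth.Agent.WittLib.Endo
import Groth.Prelude.Def_SGA7IX
import Mathlib.RingTheory.WittVector.InitTail
import Mathlib.RingTheory.IntegralClosure.IsIntegralClosure.Basic
import Mathlib.AlgebraicGeometry.Morphisms.Finite

/-! An endomorphism of `W_n` over an algebraically closed field with nonzero reduction to `W_1` is an isogeny. -/

set_option autoImplicit false
universe u

open CategoryTheory CategoryTheory.Limits AlgebraicGeometry MonoidalCategory CartesianMonoidalCategory MonObj

namespace Groth.Agent.WittLib.Isogeny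

open Groth.Agent.WittLib.Basic Groth.Agent.WittLib.Factor Groth.Agent.WittLib.Killed
  Groth.Agent.WittLib.Endo

section Split

variable {p : ℕ} [hp : Fact p.Prime]

lemma coeff_add_of_disjoint {A : Type*} [CommRing A] {n : ℕ} (x y : TruncatedWittVector p n A)
    (h : ∀ i, x.coeff i = 0 ∨ y.coeff i = 0) (i : Fin n) : (x + y).coeff i = x.coeff i + y.coeff i := by
  have hx : WittVector.truncate n x.out = x := TruncatedWittVector.truncateFun_out x
  have hy : WittVector.truncate n y.out = y := TruncatedWittVector.truncateFun_out y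
  conv_lhs => rw [← hx, ← hy, ← map_add, WittVector.coeff_truncate]
  rw [WittVector.coeff_add_of_disjoint, TruncatedWittVector.coeff_out, TruncatedWittVector.coeff_out]
  intro j
  by_cases hj : j < n
  · simpa [TruncatedWittVector.out, hj] using h ⟨j, hj⟩
  · left; simp [TruncatedWittVector.out, hj]

lemma truncate_shift' {A : Type*} [CommRing A] {a b c : ℕ} (h : a ≤ b) (h2 : c ≤ b) (hc : c ≤ b - a)
    (v : TruncatedWittVector p a A) : TruncatedWittVector.truncate h2 (WittGrp.shift p h v) = 0 :=
  TruncatedWittVector.ext fun i => by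
    rw [TruncatedWittVector.coeff_truncate, WittGrp.coeff_shift, dif_neg (by simp; omega),
      TruncatedWittVector.coeff_zero]

variable {S : Scheme.{u}} {n : ℕ}

/-- The last coordinate of a point. -/
noncomputable def last {T : Over S} (x : T ⟶ WittGrp.W p (n + 1) S) : T ⟶ WittGrp.W p 1 S :=
  ofVec (TruncatedWittVector.mk p fun _ => (vec x).coeff (Fin.last n))

lemma split_last (h : 1 ≤ n + 1) {T : Over S} (x : T ⟶ WittGrp.W p (n + 1) S) :
    x = (x ≫ WittGrp.R p S (Nat.le_succ n) ≫ pad S (Nat.le_succ n)) * (last x ≫ WittGrp.V p S h) := by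
  apply vec_ext
  rw [vec_mul, vec_V, last, vec_ofVec, pad, ← Category.assoc, comp_ofVec, vec_ofVec]
  refine TruncatedWittVector.ext fun i => ?_
  rw [coeff_add_of_disjoint]
  · simp only [WittGrp.coeff_truncMap, TruncatedWittVector.coeff_mk, WittGrp.coeff_shift]
    by_cases hi : i.val < n
    · rw [dif_pos hi, dif_neg (by omega), add_zero]
      refine Eq.trans ?_ (coeff_vec_comp (x ≫ WittGrp.R p S _) (𝟙 _) _)
      rw [Category.comp_id, vec_R, TruncatedWittVector.coeff_truncate]
      rfl
    · rw [dif_neg hi, dif_pos (by omega), map_zero, zero_add]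
      congr 1
      ext
      simp only [Fin.val_last]
      omega
  · intro j
    simp only [WittGrp.coeff_truncMap, TruncatedWittVector.coeff_mk, WittGrp.coeff_shift]
    by_cases hj : j.val < n
    · right; rw [dif_neg (by omega)]
    · left; rw [dif_neg hj, map_zero]

lemma coeff_add_shift (h : 1 ≤ n + 1) {A : Type*} [CommRing A] (u : TruncatedWittVector p (n + 1) A)
    (w : TruncatedWittVector p 1 A) :
    (u + WittGrp.shift p h w).coeff (Fin.last n) = u.coeff (Fin.last n) + w.coeff 0 := by
  let u0 : TruncatedWittVector p (n + 1) A :=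
    TruncatedWittVector.mk p fun i => if i.val < n then u.coeff i else 0
  let w0 : TruncatedWittVector p 1 A := TruncatedWittVector.mk p fun _ => u.coeff (Fin.last n)
  have hz : ∀ (v : TruncatedWittVector p 1 A) (j : Fin (n + 1)),
      (WittGrp.shift p h v).coeff j = if j.val < n then 0 else v.coeff 0 := by
    intro v j
    rw [WittGrp.coeff_shift]
    by_cases hj : j.val < n
    · rw [if_pos hj, dif_neg (by omega)]
    · rw [if_neg hj, dif_pos (by omega)]; congr 1; ext; simp only [Fin.val_zero]; omega
  have hdis : ∀ (v : TruncatedWittVector p 1 A) (j : Fin (n + 1)),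
      u0.coeff j = 0 ∨ (WittGrp.shift p h v).coeff j = 0 := by
    intro v j
    by_cases hj : j.val < n
    · right; rw [hz, if_pos hj]
    · left; simp [u0, hj]
  have hu : u = u0 + WittGrp.shift p h w0 := TruncatedWittVector.ext fun j => by
    rw [coeff_add_of_disjoint _ _ (hdis w0), hz]
    by_cases hj : j.val < n
    · simp [u0, hj]
    · have : j = Fin.last n := Fin.ext (by simp only [Fin.val_last]; omega)
      subst this
      simp [u0, w0]
  rw [hu, add_assoc, ← map_add, coeff_add_of_disjoint _ _ (hdis _), coeff_add_of_disjoint _ _ (hdis _),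
    hz, hz, if_neg (by simp), if_neg (by simp), Basic.coeff_zero_add' w0 w]
  exact (add_assoc _ _ _).symm
where
  Basic.coeff_zero_add' {A : Type _} [CommRing A] (x y : TruncatedWittVector p 1 A) :
      (x + y).coeff 0 = x.coeff 0 + y.coeff 0 := by
    obtain ⟨X, rfl⟩ := WittVector.truncate_surjective p 1 _ x
    obtain ⟨Y, rfl⟩ := WittVector.truncate_surjective p 1 _ y
    rw [← map_add, WittVector.coeff_truncate, WittVector.coeff_truncate, WittVector.coeff_truncate]
    exact WittVector.add_coeff_zero X Y

end Split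

section Isog

variable {p : ℕ} [hp : Fact p.Prime] {k : Type u} [Field k] [CharP k p] [IsAlgClosed k]

local notation "Sk" => Spec (CommRingCat.of k)

open Polynomial in
/-- The polynomial of `∑ [aᵢ] F^i` on `W_1`. -/
noncomputable def poly (p M : ℕ) (b : ℕ → k) : k[X] := ∑ i ∈ Finset.range M, C (b i) * X ^ p ^ i

omit [IsAlgClosed k] in
lemma coeff_lin_one (M : ℕ) (b : ℕ → k) {T : Over Sk} (z : T ⟶ WittGrp.W p 1 Sk) :
    (vec (z ≫ lin p 1 M b)).coeff 0 = (poly p M b).eval₂ (str T) ((vec z).coeff 0) := by
  rw [vec_lin, poly, Polynomial.eval₂_finsetSum]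
  induction Finset.range M using Finset.induction_on with
  | empty => simp [TruncatedWittVector.coeff_zero]
  | insert a s has ih =>
    rw [Finset.sum_insert has, Finset.sum_insert has, show ∀ v w : TruncatedWittVector p 1 Γ(T.left, ⊤), (v + w).coeff 0 = v.coeff 0 + w.coeff 0
      from fun v w => coeff_zero_add v w Nat.one_pos]
    refine congrArg₂ (· + ·) ?_ ih
    simp [coeff_term]

omit [CharP k p] [IsAlgClosed k] in
lemma natDegree_poly_ne_zero {M : ℕ} {b : ℕ → k} {i : ℕ} (hi : i < M) (hb : b i ≠ 0) :
    (poly p M b).natDegree ≠ 0 := by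
  intro h0
  have hc : (poly p M b).coeff (p ^ i) = b i := by
    simp only [poly, Polynomial.finsetSum_coeff, Polynomial.coeff_C_mul_X_pow]
    rw [Finset.sum_eq_single i]
    · simp
    · intro j _ hj
      rw [if_neg fun he => hj (Nat.pow_right_injective hp.out.two_le he).symm]
    · intro h; exact absurd (Finset.mem_range.2 hi) h
  exact hb (hc ▸ Polynomial.coeff_eq_zero_of_natDegree_lt (h0 ▸ pow_pos hp.out.pos i))

omit [IsAlgClosed k] in
lemma exists_ne_zero {M : ℕ} {a : ℕ → k} (h : lin p 1 M a ≠ 1) : ∃ i < M, a i ≠ 0 := by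
  by_contra hc
  push Not at hc
  refine h (hom_ext fun T x => vec_ext ?_)
  rw [MonObj.comp_one, vec_one, vec_lin]
  refine Finset.sum_eq_zero fun i hi => TruncatedWittVector.ext fun j => ?_
  rw [coeff_term, hc i (Finset.mem_range.1 hi), map_zero, TruncatedWittVector.coeff_zero,
    zero_pow (pow_ne_zero _ hp.out.ne_zero), zero_mul]

/-- The map induced on global functions. -/
noncomputable abbrev pull {X Y : Over Sk} (f : X ⟶ Y) : Γ(Y.left, ⊤) →+* Γ(X.left, ⊤) :=
  f.left.appTop.hom

/-- The induction: integrality and surjectivity on geometric points. -/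
theorem integral_and_surjective : ∀ {n : ℕ} (f : WittGrp.W p n Sk ⟶ WittGrp.W p n Sk) [IsMonHom f]
    (M : ℕ) (a : ℕ → k), (∀ h : 1 ≤ n, f ≫ WittGrp.R p Sk h = WittGrp.R p Sk h ≫ lin p 1 M a) →
    lin p 1 M a ≠ 1 →
    (pull f).IsIntegral ∧ ∀ (L : Type u) [Field L] [IsAlgClosed L] (T : Over Sk)
      (_ : Γ(T.left, ⊤) ≃+* L) (y : T ⟶ WittGrp.W p n Sk), ∃ x, x ≫ f = y
  | 0, f, _, _, _, _, _ => by
    refine ⟨fun γ => ?_, fun _ _ _ _ _ y => ⟨y, eq_W_zero _ _⟩⟩
    rw [show f = 𝟙 _ from eq_W_zero _ _]
    exact RingHom.isIntegralElem_map _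
  | n + 1, f, _, M, a, hf, ha => by
    have h1 : 1 ≤ n + 1 := Nat.le_add_left 1 n
    obtain ⟨M', a', δ, hδ, hdec⟩ := exists_decomp f
    haveI := hδ
    have hVR1 : WittGrp.V p Sk (Nat.le_succ n) ≫ WittGrp.R p Sk h1 = 1 := by
      refine hom_ext fun T x => vec_ext ?_
      rw [← Category.assoc, vec_R, vec_V, MonObj.comp_one, vec_one,
        truncate_shift' (Nat.le_succ n) _ (by omega)]
    have hlin : lin p 1 M' a' = lin p 1 M a := by
      apply eq_of_R_comp h1
      rw [← hf h1, hdec, MonObj.mul_comp, lin_R]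
      simp only [Category.assoc, hVR1, MonObj.comp_one, _root_.one_mul]
    let f' : WittGrp.W p n Sk ⟶ WittGrp.W p n Sk :=
      (δ ≫ WittGrp.V p Sk (Nat.le_succ n) ≫ WittGrp.R p Sk (Nat.le_succ n)) * lin p n M' a'
    haveI : IsMonHom f' := isMonHom_mul _ _
    have hff' : f ≫ WittGrp.R p Sk (Nat.le_succ n) = WittGrp.R p Sk (Nat.le_succ n) ≫ f' := by
      rw [hdec, MonObj.mul_comp, MonObj.comp_mul, lin_R]
      simp only [Category.assoc]
    have hf'R : ∀ h : 1 ≤ n, f' ≫ WittGrp.R p Sk h = WittGrp.R p Sk h ≫ lin p 1 M a := by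
      intro h
      rw [MonObj.mul_comp, lin_R, hlin]
      simp only [Category.assoc, R_comp_R, hVR1, MonObj.comp_one, _root_.one_mul]
    obtain ⟨ihint, ihsurj⟩ := integral_and_surjective f' M a hf'R ha
    obtain ⟨i₀, hi₀, hb₀⟩ := exists_ne_zero (hlin ▸ ha)
    set b : ℕ → k := fun i => a' i ^ p ^ (n + 1 - 1) with hb
    have hb0 : b i₀ ≠ 0 := pow_ne_zero _ hb₀
    set Q := poly p M' b with hQ
    have hQdeg : Q.natDegree ≠ 0 := natDegree_poly_ne_zero hi₀ hb0
    have hVf : WittGrp.V p Sk h1 ≫ f = lin p 1 M' b ≫ WittGrp.V p Sk h1 := by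
      have hVR : WittGrp.V p Sk h1 ≫ WittGrp.R p Sk (Nat.le_succ n) = 1 := by
        refine hom_ext fun T x => vec_ext ?_
        rw [← Category.assoc, vec_R, vec_V, MonObj.comp_one, vec_one,
          truncate_shift' h1 _ (by omega)]
      rw [hdec, MonObj.comp_mul, reassoc_of% hVR, MonObj.one_comp, _root_.one_mul, V_lin]
    have key : ∀ {T : Over Sk} (x : T ⟶ WittGrp.W p (n + 1) Sk),
        (vec (x ≫ f)).coeff (Fin.last n) =
          (vec ((x ≫ WittGrp.R p Sk (Nat.le_succ n)) ≫ pad Sk (Nat.le_succ n) ≫ f)).coeff (Fin.last n) +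
            Q.eval₂ (str T) ((vec x).coeff (Fin.last n)) := by
      intro T x
      conv_lhs => rw [split_last h1 x]
      rw [MonObj.mul_comp, vec_mul, Category.assoc (last x), hVf, ← Category.assoc (last x), vec_V,
        coeff_add_shift, coeff_lin_one]
      simp [last, Category.assoc, hQ]
    constructor
    · let W := WittGrp.W p (n + 1) Sk
      have hcomp : ∀ c, pull f (str W c) = str W c := fun c => str_comp f c
      have hsub : ∀ γ', (pull f).IsIntegralElem (pull (WittGrp.R p Sk (Nat.le_succ n)) γ') := by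
        intro γ'
        obtain ⟨q, hq, hq0⟩ := ihint γ'
        refine ⟨q.map (pull (WittGrp.R p Sk (Nat.le_succ n))), hq.map _, ?_⟩
        have hc : (pull f).comp (pull (WittGrp.R p Sk (Nat.le_succ n))) =
            (pull (WittGrp.R p Sk (Nat.le_succ n))).comp (pull f') := by
          refine RingHom.ext fun c => ?_
          exact congrArg (fun q => q.left.appTop c) hff'
        rw [Polynomial.eval₂_map, hc, ← Polynomial.hom_eval₂, hq0, map_zero]
      have hcoord : ∀ j, (pull f).IsIntegralElem ((vec (𝟙 W)).coeff j) := by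
        intro j
        by_cases hj : j.val < n
        · have e : (vec (𝟙 W)).coeff j = pull (WittGrp.R p Sk (Nat.le_succ n))
              ((vec (𝟙 (WittGrp.W p n Sk))).coeff ⟨j.val, hj⟩) := by
            rw [← coeff_vec_comp, Category.comp_id, ← Category.id_comp (WittGrp.R p Sk _), vec_R,
              TruncatedWittVector.coeff_truncate]
            rfl
          rw [e]; exact hsub _
        · obtain rfl : j = Fin.last n := Fin.ext (by simp only [Fin.val_last]; omega)
          have e := key (𝟙 W)
          rw [Category.id_comp, Category.id_comp] at e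
          set x := (vec (𝟙 W)).coeff (Fin.last n)
          have hQint : (pull f).IsIntegralElem (Q.eval₂ (str W) x) := by
            rw [← sub_eq_of_eq_add' e]
            refine RingHom.IsIntegralElem.sub (pull f) ?_ ?_
            · rw [← Category.comp_id f, coeff_vec_comp f (𝟙 W)]
              exact RingHom.isIntegralElem_map _
            · rw [coeff_vec_comp]
              exact hsub _
          letI : Algebra Γ(W.left, ⊤) Γ(W.left, ⊤) := (pull f).toAlgebra
          let l := Q.leadingCoeff⁻¹
          have hQ0 : Q ≠ 0 := fun h => hQdeg (by rw [h, Polynomial.natDegree_zero])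
          let P : Polynomial Γ(W.left, ⊤) := (Q * Polynomial.C l).map (str W)
          have hmon : (Q * Polynomial.C l).Monic := Polynomial.monic_mul_leadingCoeff_inv hQ0
          haveI : Nontrivial Γ(W.left, ⊤) := by
            refine ⟨0, 1, fun h01 => ?_⟩
            have := congrArg (pull (1 : 𝟙_ (Over Sk) ⟶ W)) h01
            rw [map_zero, map_one] at this
            have h2 := congrArg (Scheme.ΓSpecIso (CommRingCat.of k)).hom this
            simp at h2
          have hdeg : P.natDegree ≠ 0 := by
            rw [hmon.natDegree_map, Polynomial.natDegree_mul_C (inv_ne_zero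
              (Polynomial.leadingCoeff_ne_zero.2 hQ0))]
            exact hQdeg
          refine IsIntegral.of_aeval_monic (R := Γ(W.left, ⊤)) (hmon.map _) hdeg ?_
          change (pull f).IsIntegralElem _
          rw [Polynomial.aeval_def, Polynomial.eval₂_map, RingHom.algebraMap_toAlgebra,
            show (pull f).comp (str W) = str W from RingHom.ext hcomp, Polynomial.eval₂_mul,
            Polynomial.eval₂_C]
          exact RingHom.IsIntegralElem.mul (pull f) hQint
            (hcomp l ▸ RingHom.isIntegralElem_map _)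
      intro γ
      obtain ⟨P, hP⟩ := exists_mvPoly (n + 1) γ
      have hγ : γ = MvPolynomial.eval₂ (str W) (fun j => (vec (𝟙 W)).coeff j.down) P := by
        rw [← hP (𝟙 W)]
        simp [W]
      rw [hγ]; clear hγ hP
      induction P using MvPolynomial.induction_on with
      | C c => rw [MvPolynomial.eval₂_C, ← hcomp c]; exact RingHom.isIntegralElem_map _
      | add s t hs ht =>
        rw [MvPolynomial.eval₂_add]
        exact RingHom.IsIntegralElem.add (pull f) hs ht
      | mul_X s i hs =>
        rw [MvPolynomial.eval₂_mul, MvPolynomial.eval₂_X]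
        exact RingHom.IsIntegralElem.mul (pull f) hs (hcoord _)
    · intro L _ _ T e y
      obtain ⟨x', hx'⟩ := ihsurj L T e (y ≫ WittGrp.R p Sk (Nat.le_succ n))
      set u := x' ≫ pad Sk (Nat.le_succ n) ≫ f with hu
      let c := (vec y).coeff (Fin.last n) - (vec u).coeff (Fin.last n)
      obtain ⟨r, hr⟩ : ∃ r : L, (Q.map (e.toRingHom.comp (str T))).eval r = e c := by
        have hd : (Q.map (e.toRingHom.comp (str T)) - Polynomial.C (e c)).degree ≠ 0 := by
          intro h
          have := Polynomial.natDegree_eq_of_degree_eq_some h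
          rw [Polynomial.natDegree_sub_C, Polynomial.natDegree_map] at this
          exact hQdeg this
        obtain ⟨r, hr⟩ := IsAlgClosed.exists_root _ hd
        exact ⟨r, by simpa [Polynomial.IsRoot, sub_eq_zero] using hr⟩
      have hz : Q.eval₂ (str T) (e.symm r) = c := by
        apply e.injective
        rw [← hr, Polynomial.eval_map, ← RingEquiv.coe_toRingHom, Polynomial.hom_eval₂]
        simp
      let z : T ⟶ WittGrp.W p 1 Sk := ofVec (TruncatedWittVector.mk p fun _ => e.symm r)
      refine ⟨(x' ≫ pad Sk (Nat.le_succ n)) * (z ≫ WittGrp.V p Sk h1), vec_ext ?_⟩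
      rw [MonObj.mul_comp, vec_mul, Category.assoc z, hVf, ← Category.assoc z, vec_V, Category.assoc,
        ← hu]
      refine TruncatedWittVector.ext fun j => ?_
      by_cases hj : j.val < n
      · have hR : TruncatedWittVector.truncate (Nat.le_succ n) (vec u + WittGrp.shift p h1
            (vec (z ≫ lin p 1 M' b))) = TruncatedWittVector.truncate (Nat.le_succ n) (vec y) := by
          rw [map_add, truncate_shift' h1 _ (by omega), add_zero, ← vec_R, ← vec_R, hu]
          simp only [Category.assoc, hff']
          rw [← Category.assoc (pad Sk _), pad_R, Category.id_comp, hx']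
        have := congrArg (fun v => TruncatedWittVector.coeff (⟨j.val, hj⟩ : Fin n) v) hR
        simp only [TruncatedWittVector.coeff_truncate] at this
        exact this
      · obtain rfl : j = Fin.last n := Fin.ext (by simp only [Fin.val_last]; omega)
        rw [coeff_add_shift, coeff_lin_one, vec_ofVec, TruncatedWittVector.coeff_mk, hz]
        exact add_sub_cancel _ _

set_option backward.isDefEq.respectTransparency.types false in
theorem surjective_and_finite {n : ℕ} (f : WittGrp.W p n Sk ⟶ WittGrp.W p n Sk) [IsMonHom f]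
    (M : ℕ) (a : ℕ → k) (hf : ∀ h : 1 ≤ n, f ≫ WittGrp.R p Sk h = WittGrp.R p Sk h ≫ lin p 1 M a)
    (ha : lin p 1 M a ≠ 1) : Surjective f.left ∧ IsFinite f.left := by
  obtain ⟨hint, hsurj⟩ := integral_and_surjective f M a hf ha
  haveI : IsAffine (WittGrp.W p n Sk).left := isAffine_of_isAffineHom (WittGrp.W p n Sk).hom
  refine ⟨⟨fun y => ?_⟩, ?_⟩
  · let W := (WittGrp.W p n Sk).left
    let L := AlgebraicClosure (W.residueField y)
    let g : Spec (CommRingCat.of L) ⟶ W :=
      Spec.map (CommRingCat.ofHom (algebraMap (W.residueField y) L)) ≫ W.fromSpecResidueField y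
    let T : Over Sk := Over.mk (g ≫ (WittGrp.W p n Sk).hom)
    obtain ⟨x, hx⟩ := hsurj L T (Scheme.ΓSpecIso (CommRingCat.of L)).commRingCatIsoToRingEquiv
      (Over.homMk g rfl)
    let t : T.left := IsLocalRing.closedPoint L
    refine ⟨x.left.base t, ?_⟩
    have h := congrArg (fun q : T ⟶ _ => q.left.base t) hx
    exact Eq.trans rfl (h.trans (Scheme.fromSpecResidueField_apply y _))
  · rw [HasAffineProperty.iff_of_isAffine (P := @IsFinite)]
    refine ⟨inferInstance, RingHom.IsIntegral.to_finite hint ?_⟩
    have hlft : LocallyOfFiniteType f.left := by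
      haveI : LocallyOfFiniteType (WittGrp.W p n Sk).hom := inferInstance
      haveI : LocallyOfFiniteType (f.left ≫ (WittGrp.W p n Sk).hom) := by rw [Over.w]; infer_instance
      exact locallyOfFiniteType_of_comp f.left (WittGrp.W p n Sk).hom
    exact (HasRingHomProperty.iff_of_isAffine (P := @LocallyOfFiniteType)).1 hlft

theorem isIsogenyOver_of_ne_one {n : ℕ} (hn : 1 ≤ n) (f : WittGrp.W p n Sk ⟶ WittGrp.W p n Sk)
    [IsMonHom f] (hf : f ≫ WittGrp.R p Sk hn ≠ 1) : SGA7.IsIsogenyOver f := by
  obtain ⟨M, a, ha⟩ := exists_hom_to_W_one hn (f ≫ WittGrp.R p Sk hn)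
  have hne : lin p 1 M a ≠ 1 := fun h => hf (by rw [ha, h, MonObj.comp_one])
  obtain ⟨hs, hfin⟩ := surjective_and_finite f M a (fun _ => ha) hne
  refine ⟨hs, fun N i h => ?_⟩
  have h' := IsPullback.map (Over.forget Sk) h
  haveI : IsFinite ((Over.forget Sk).map f) := hfin
  haveI hu : IsFinite ((Over.forget Sk).map (toUnit N)) :=
    MorphismProperty.of_isPullback h' ‹_›
  have e : N.hom = (toUnit N).left := ((Over.w (toUnit N)).symm.trans (Category.comp_id _))
  rw [e]
  exact hu

theorem not_isIsogenyOver {n : ℕ} (hn : 1 ≤ n) (f : WittGrp.W p n Sk ⟶ WittGrp.W p n Sk)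
    (hf : f ≫ WittGrp.R p Sk hn = 1) : ¬ SGA7.IsIsogenyOver f := by
  rintro ⟨hs, -⟩
  haveI := hs
  let T : Over Sk := 𝟙_ (Over Sk)
  let x : Bool → (T ⟶ WittGrp.W p 1 Sk) := fun c =>
    ofVec (TruncatedWittVector.mk p fun _ => str T (if c then 1 else 0))
  have hne : x true ≠ x false := fun h => by
    have := congrArg (fun q => (vec q).coeff 0) h
    simp [x] at this
    have h2 := congrArg (Scheme.ΓSpecIso (CommRingCat.of k)).hom this
    simp at h2
  refine hne ?_
  have hpad : ∀ c, ∃ q : (WittGrp.W p n Sk).left,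
      (WittGrp.R p Sk hn).left.base (f.left.base q) = (x c).left.base (IsLocalRing.closedPoint k) := by
    intro c
    obtain ⟨q, hq⟩ := f.left.surjective ((x c ≫ pad Sk hn).left.base (IsLocalRing.closedPoint k))
    refine ⟨q, ?_⟩
    rw [hq]
    have := congrArg (fun g => g.left.base (IsLocalRing.closedPoint k))
      (show (x c ≫ pad Sk hn) ≫ WittGrp.R p Sk hn = x c by rw [Category.assoc, pad_R, Category.comp_id])
    exact this
  obtain ⟨q1, hq1⟩ := hpad true
  obtain ⟨q2, hq2⟩ := hpad false
  have hconst : ∀ q, (WittGrp.R p Sk hn).left.base (f.left.base q) =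
      (η[WittGrp.W p 1 Sk] : 𝟙_ (Over Sk) ⟶ _).left.base (IsLocalRing.closedPoint k) := by
    intro q
    have := congrArg (fun g => g.left.base q) hf
    refine this.trans ?_
    rw [Hom.one_def]
    exact congrArg (fun t => (η[WittGrp.W p 1 Sk] : 𝟙_ (Over Sk) ⟶ _).left.base t)
      (@Subsingleton.elim _ (inferInstanceAs (Subsingleton (Spec (CommRingCat.of k)))) _ _)
  have hpt : (x true).left.base (IsLocalRing.closedPoint k) = (x false).left.base (IsLocalRing.closedPoint k) :=
    hq1.symm.trans ((hconst q1).trans ((hconst q2).symm.trans hq2))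
  haveI : LocallyOfFiniteType (WittGrp.W p 1 Sk).hom := inferInstance
  exact Over.OverMorphism.ext (ext_of_apply_closedPoint_eq (K := k) (WittGrp.W p 1 Sk).hom
    (Over.w (x true)) (Over.w (x false)) hpt)

end Isog

end Groth.Agent.WittLib.Isogeny
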