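import Groth.Agent.WittLib.Basic
import Mathlib.AlgebraicGeometry.AffineSpace
import Mathlib.AlgebraicGeometry.Properties
import Mathlib.FieldTheory.IsAlgClosed.AlgebraicClosure
import Mathlib.FieldTheory.IsAlgClosed.Basic

/-! Homomorphisms out of / into Witt group schemes killed by powers of `p`. -/

set_option autoImplicit false
universe u

open CategoryTheory CategoryTheory.Limits AlgebraicGeometry MonoidalCategory CartesianMonoidalCategory MonObj

namespace Groth.Agent.WittLib.Factor

open Groth.Agent.WittLib.Basic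

variable {p : ℕ} [hp : Fact p.Prime] {S : Scheme.{u}} {n m : ℕ}

theorem surjective_F_left (hS : (p : Γ(S, ⊤)) = 0) : Surjective (WittGrp.F p n S hS).left := by
  refine ⟨fun y => ?_⟩
  let L := AlgebraicClosure ((WittGrp.W p n S).left.residueField y)
  let g : Spec (CommRingCat.of L) ⟶ (WittGrp.W p n S).left :=
    Spec.map (CommRingCat.ofHom (algebraMap ((WittGrp.W p n S).left.residueField y) L)) ≫
      (WittGrp.W p n S).left.fromSpecResidueField y
  let T : Over S := Over.mk (g ≫ (WittGrp.W p n S).hom)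
  let x : T ⟶ WittGrp.W p n S := Over.homMk g rfl
  let e := (Scheme.ΓSpecIso (CommRingCat.of L)).commRingCatIsoToRingEquiv
  have hroot : ∀ c : Γ(T.left, ⊤), ∃ z : Γ(T.left, ⊤), z ^ p = c := fun c => by
    obtain ⟨z, hz⟩ := IsAlgClosed.exists_pow_nat_eq (e c) hp.out.pos
    refine ⟨e.symm z, e.injective ?_⟩
    rw [map_pow, e.apply_symm_apply, hz]
  choose r hr using hroot
  let x' : T ⟶ WittGrp.W p n S := ofVec (TruncatedWittVector.mk p fun i => r ((vec x).coeff i))
  have hx : x' ≫ WittGrp.F p n S hS = x := by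
    apply vec_ext
    refine TruncatedWittVector.ext fun i => ?_
    rw [vec_F, WittGrp.coeff_frob]
    simp [x', hr]
  let t : T.left := IsLocalRing.closedPoint L
  refine ⟨x'.left.base t, ?_⟩
  have h := congrArg (fun q : T ⟶ _ => q.left.base t) hx
  refine Eq.trans ?_ (h.trans ?_)
  · rfl
  · show g.base t = y
    exact Scheme.fromSpecResidueField_apply y _

theorem eq_of_F_comp [IsReduced (WittGrp.W p n S).left] (hS : (p : Γ(S, ⊤)) = 0) {H : Over S}
    [IsSeparated H.hom] {f g : WittGrp.W p n S ⟶ H}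
    (h : WittGrp.F p n S hS ≫ f = WittGrp.F p n S hS ≫ g) : f = g := by
  haveI := surjective_F_left (n := n) hS
  ext1
  refine ext_of_isDominant_of_isSeparated H.hom (by simp) (WittGrp.F p n S hS).left ?_
  exact congrArg (fun q => q.left) h

theorem isReduced_W (k : Type u) [Field k] (n : ℕ) :
    IsReduced (WittGrp.W p n (Spec (CommRingCat.of k))).left :=
  have h : IsReduced (AffineSpace (ULift.{u} (Fin n)) (Spec (CommRingCat.of k))) :=
    isReduced_of_isOpenImmersion (AffineSpace.SpecIso (ULift.{u} (Fin n)) (CommRingCat.of k)).hom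
  h

/-- The section of `R` padding with zeros. -/
noncomputable def pad (S : Scheme.{u}) (h : n ≤ m) : WittGrp.W p n S ⟶ WittGrp.W p m S :=
  ofVec (TruncatedWittVector.mk p fun i =>
    if hi : i.val < n then (vec (𝟙 (WittGrp.W p n S))).coeff ⟨i.val, hi⟩ else 0)

theorem pad_R (h : n ≤ m) : pad (p := p) S h ≫ WittGrp.R p S h = 𝟙 _ := by
  apply vec_ext
  refine TruncatedWittVector.ext fun i => ?_
  rw [vec_R, TruncatedWittVector.coeff_truncate]
  rw [pad, vec_ofVec, TruncatedWittVector.coeff_mk, dif_pos (show (Fin.castLE h i).val < n from i.isLt)]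
  rfl

theorem eq_of_R_comp (h : n ≤ m) {H : Over S} {f g : WittGrp.W p n S ⟶ H}
    (e : WittGrp.R p S h ≫ f = WittGrp.R p S h ≫ g) : f = g := by
  have := congrArg (fun q => pad S h ≫ q) e
  simpa [← Category.assoc, pad_R] using this

theorem V_comp_V {a b c : ℕ} (h1 : a ≤ b) (h2 : b ≤ c) :
    WittGrp.V p S h1 ≫ WittGrp.V p S h2 = WittGrp.V p S (h1.trans h2) := by
  refine hom_ext fun T x => vec_ext ?_
  simp only [← Category.assoc, vec_V]
  refine TruncatedWittVector.ext fun i => ?_
  simp only [WittGrp.coeff_shift]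
  split_ifs <;> first | (congr 1; ext; dsimp; omega) | rfl | omega

theorem R_comp_R {a b c : ℕ} (h1 : a ≤ b) (h2 : b ≤ c) :
    WittGrp.R p S h2 ≫ WittGrp.R p S h1 = WittGrp.R p S (h1.trans h2) := by
  refine hom_ext fun T x => vec_ext ?_
  simp only [← Category.assoc, vec_R]
  refine TruncatedWittVector.ext fun i => ?_
  simp only [TruncatedWittVector.coeff_truncate]
  rfl

theorem R_self : WittGrp.R p S (le_refl n) = 𝟙 _ := by
  refine hom_ext fun T x => vec_ext ?_
  rw [vec_R, Category.comp_id]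
  exact TruncatedWittVector.ext fun i => by rw [TruncatedWittVector.coeff_truncate]; rfl

theorem V_self : WittGrp.V p S (le_refl n) = 𝟙 _ := by
  refine hom_ext fun T x => vec_ext ?_
  rw [vec_V, Category.comp_id]
  refine TruncatedWittVector.ext fun i => ?_
  rw [WittGrp.coeff_shift, dif_pos (by omega)]
  congr 1
  ext
  simp

/-- `p` is `R ≫ F ≫ V`. -/
theorem pow_p_eq (hS : (p : Γ(S, ⊤)) = 0) (h : n ≤ m) (h1 : m ≤ n + 1) (hnm : n ≠ m) :
    (𝟙 (WittGrp.W p m S)) ^ p = WittGrp.R p S h ≫ WittGrp.F p n S hS ≫ WittGrp.V p S h := by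
  obtain rfl : m = n + 1 := by omega
  refine hom_ext fun T x => vec_ext ?_
  rw [MonObj.comp_pow, Category.comp_id, vec_pow]
  simp only [← Category.assoc, vec_V, vec_F, vec_R]
  rcases subsingleton_or_nontrivial Γ(T.left, ⊤) with hh | hh
  · exact TruncatedWittVector.ext fun i => Subsingleton.elim _ _
  · haveI : CharP Γ(T.left, ⊤) p :=
      (CharP.charP_iff_prime_eq_zero hp.out).2 (WittGrp.natCast_eq_zero_of_over p hS T)
    obtain ⟨X, hX⟩ := WittVector.truncate_surjective p (n + 1) _ (vec x)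
    rw [← hX, TruncatedWittVector.truncate_wittVector_truncate, WittGrp.frob_truncate,
      WittGrp.shift_truncate, nsmul_eq_mul, ← map_natCast (WittVector.truncate (p := p) (n + 1)), ← map_mul]
    congr 1
    rw [Nat.add_sub_cancel_left, Function.iterate_one, WittVector.verschiebung_frobenius, mul_comm]

/-- A homomorphism out of `W_N` killed by `p ^ j` is trivial on `V W_a` for `a + j ≤ N`. -/
theorem V_comp_eq_one (k : Type u) [Field k] [CharP k p] :
    ∀ (j : ℕ) {N a : ℕ} (h : a ≤ N) (_ : a + j ≤ N) {H : Over (Spec (CommRingCat.of k))} [GrpObj H]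
      [IsSeparated H.hom] (f : WittGrp.W p N (Spec (CommRingCat.of k)) ⟶ H) [IsMonHom f],
      f ^ (p ^ j) = 1 → WittGrp.V p (Spec (CommRingCat.of k)) h ≫ f = 1
  | 0, N, a, h, _, H, _, _, f, _, hf => by
    rw [pow_zero, pow_one] at hf
    rw [hf, MonObj.comp_one]
  | j + 1, N, a, h, haj, H, _, _, f, _, hf => by
    have hS : (p : Γ(Spec (CommRingCat.of k), ⊤)) = 0 := by
      apply (Scheme.ΓSpecIso (CommRingCat.of k)).commRingCatIsoToRingEquiv.injective
      rw [map_natCast, map_zero]
      exact CharP.cast_eq_zero k p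
    obtain ⟨N, rfl⟩ : ∃ N', N = N' + 1 := ⟨N - 1, by omega⟩
    haveI := isReduced_W (p := p) k N
    have hsplit := V_comp_V (p := p) (S := Spec (CommRingCat.of k)) (show a ≤ N by omega) (Nat.le_succ N)
    rw [← hsplit, Category.assoc]
    refine V_comp_eq_one k j _ (by omega) _ ?_
    apply eq_of_F_comp hS
    apply eq_of_R_comp (Nat.le_succ N)
    simp only [MonObj.comp_pow, MonObj.comp_one]
    have hpw : (WittGrp.R p (Spec (CommRingCat.of k)) (Nat.le_succ N) ≫ WittGrp.F p N _ hS ≫
        WittGrp.V p _ (Nat.le_succ N) ≫ f) = f ^ p := by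
      rw [← Category.assoc, ← Category.assoc, Category.assoc (WittGrp.R p _ _),
        ← pow_p_eq hS (Nat.le_succ N) le_rfl (Nat.succ_ne_self N).symm, MonObj.pow_comp, Category.id_comp]
    rw [hpw, ← pow_mul, ← pow_succ']
    exact hf

/-- Factorisation through the restriction. -/
theorem existsUnique_factor_R {a b c : ℕ} (hb : b ≤ c) (ha : a ≤ c) (hab : a + b = c) {H : Over S}
    [GrpObj H] (f : WittGrp.W p c S ⟶ H) [IsMonHom f] (hf : WittGrp.V p S ha ≫ f = 1) :
    ∃! g : WittGrp.W p b S ⟶ H, IsMonHom g ∧ WittGrp.R p S hb ≫ g = f := by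
  have hfac : WittGrp.R p S hb ≫ pad S hb ≫ f = f := by
    refine hom_ext fun T x => ?_
    set y := x ≫ WittGrp.R p S hb ≫ pad S hb
    obtain ⟨w, hw⟩ := exists_shift_of_truncate_eq_zero ha hb hab (vec x - vec y) (by
      rw [map_sub, ← vec_R hb x, ← vec_R hb y, sub_eq_zero]
      simp [y, Category.assoc, pad_R])
    have hx : x = (ofVec w ≫ WittGrp.V p S ha) * y := by
      apply vec_ext
      rw [vec_mul, vec_V, vec_ofVec, hw, sub_add_cancel]
    have hy : x ≫ WittGrp.R p S hb ≫ pad S hb ≫ f = y ≫ f := by simp [y, Category.assoc]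
    rw [hy]
    conv_rhs => rw [hx]
    rw [MonObj.mul_comp, Category.assoc (ofVec w), hf, MonObj.comp_one, _root_.one_mul]
  refine ⟨pad S hb ≫ f, ⟨isMonHom_of_points _ fun T x y => ?_, hfac⟩, fun g hg => ?_⟩
  · have hx : x = (x ≫ pad S hb) ≫ WittGrp.R p S hb := by rw [Category.assoc, pad_R, Category.comp_id]
    have hy : y = (y ≫ pad S hb) ≫ WittGrp.R p S hb := by rw [Category.assoc, pad_R, Category.comp_id]
    conv_lhs => rw [hx, hy, ← MonObj.mul_comp, Category.assoc, hfac]
    rw [MonObj.mul_comp, Category.assoc, Category.assoc]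
  · apply eq_of_R_comp hb
    rw [hg.2, hfac]

/-- Cancellation of a shift. -/
theorem eq_of_comp_V (h : n ≤ m) {T : Over S} {f g : T ⟶ WittGrp.W p n S}
    (e : f ≫ WittGrp.V p S h = g ≫ WittGrp.V p S h) : f = g := by
  apply vec_ext
  apply shift_injective h
  rw [← vec_V h, ← vec_V h, e]

/-- Factorisation through the shift. -/
theorem exists_factor_V {a b c : ℕ} (ha : a ≤ c) (hb : b ≤ c) (hab : a + b = c) {T : Over S}
    (x : T ⟶ WittGrp.W p c S) (hx : x ≫ WittGrp.R p S hb = 1) :
    ∃ y : T ⟶ WittGrp.W p a S, y ≫ WittGrp.V p S ha = x := by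
  obtain ⟨w, hw⟩ := exists_shift_of_truncate_eq_zero ha hb hab (vec x)
    (by rw [← vec_R hb x, hx, vec_one])
  exact ⟨ofVec w, vec_ext (by rw [vec_V, vec_ofVec, hw])⟩

theorem isMonHom_of_comp_V (h : n ≤ m) {G : Over S} [GrpObj G] (g : G ⟶ WittGrp.W p n S)
    [IsMonHom (g ≫ WittGrp.V p S h)] : IsMonHom g := by
  refine isMonHom_of_points g fun T x y => eq_of_comp_V h ?_
  rw [MonObj.mul_comp (x ≫ g) (y ≫ g), Category.assoc, Category.assoc, Category.assoc]
  exact MonObj.mul_comp x y (g ≫ WittGrp.V p S h)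

end Groth.Agent.WittLib.Factor
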